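import Cfsg.Agent.H286.CS.PList
import Cfsg.Agent.H431.CS.Defs

/-!
# S3677, `PΩ⁺(2n,q)`, `r` of order `2 n - 2`: the lattice of centralizer orders (helper286)
-/

set_option autoImplicit false
set_option linter.unusedSectionVars false

namespace Cfsg.Agent.H286.CS

open Module
open Cfsg Cfsg.Agent.H431.CS Cfsg.Agent.H364 Cfsg.Agent.H370.AAM

universe v

section arith

theorem fact_of {p c d e X : ℕ} (hp : p.Prime) (hd : ¬ p ∣ d) (hX : ¬ p ∣ X) (h : d * c = p ^ e * X) :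
    c.factorization p = e := by
  have hX0 : X ≠ 0 := by rintro rfl; exact hX (dvd_zero p)
  have hd0 : d ≠ 0 := by rintro rfl; exact hd (dvd_zero p)
  have hc0 : c ≠ 0 := by
    rintro rfl
    rw [mul_zero] at h
    have := (mul_eq_zero.1 h.symm).resolve_left (pow_ne_zero _ hp.ne_zero)
    exact hX0 this
  have h1 : (d * c).factorization p = (p ^ e * X).factorization p := by rw [h]
  rw [Nat.factorization_mul hd0 hc0, Nat.factorization_mul (pow_ne_zero _ hp.ne_zero) hX0, hp.factorization_pow] at h1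
  simp only [Finsupp.add_apply, Finsupp.single_eq_same] at h1
  rw [Nat.factorization_eq_zero_of_not_dvd hd, Nat.factorization_eq_zero_of_not_dvd hX] at h1
  simpa using h1

theorem nd_add {p q j : ℕ} (hp : p.Prime) (hpq : p ∣ q) (hj : 0 < j) : ¬ p ∣ q ^ j + 1 := by
  intro h
  have h1 : p ∣ q ^ j := dvd_pow hpq (by omega)
  exact hp.one_lt.ne' (Nat.dvd_one.1 ((Nat.dvd_add_right h1).1 h))

theorem nd_sub {p q j : ℕ} (hp : p.Prime) (hq : 1 ≤ q) (hpq : p ∣ q) (hj : 0 < j) : ¬ p ∣ q ^ j - 1 := by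
  intro h
  have h1 : p ∣ q ^ j := dvd_pow hpq (by omega)
  have h2 : 1 ≤ q ^ j := Nat.one_le_pow _ _ (by omega)
  have h3 : p ∣ 1 := by
    have := (Nat.dvd_sub h1 h)
    rwa [Nat.sub_sub_self h2] at this
  exact hp.one_lt.ne' (Nat.dvd_one.1 h3)

theorem nd_prod {p q m : ℕ} (hp : p.Prime) (hq : 1 ≤ q) (hpq : p ∣ q) :
    ¬ p ∣ ∏ i ∈ Finset.range m, (q ^ (2 * (i + 1)) - 1) := by
  intro hd
  obtain ⟨i, -, hi⟩ := (hp.prime.dvd_finsetProd_iff _).1 hd
  exact nd_sub hp hq hpq (by omega) hi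

theorem nd_gu {p q m : ℕ} (hp : p.Prime) (hq : 2 ≤ q) (hpq : p ∣ q) :
    ¬ p ∣ ∏ i ∈ Finset.range m, (if Even i then q ^ (i + 1) + 1 else q ^ (i + 1) - 1) := by
  intro hd
  obtain ⟨i, -, hi⟩ := (hp.prime.dvd_finsetProd_iff _).1 hd
  exact Cfsg.Agent.H510.CS.not_dvd_fac hp hpq hq i hi

theorem even_mul (m : ℕ) : 2 * (m * (m - 1) / 2) = m * (m - 1) :=
  Nat.mul_div_cancel' (Nat.even_mul_pred_self m).two_dvd

theorem exp_eq {n k m : ℕ} (h : k * m = n) : 2 * (k * (m * (m - 1) / 2)) = n * (m - 1) := by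
  rw [mul_left_comm, even_mul, ← mul_assoc, h]

theorem dvd_iff_ord {r q e : ℕ} (hq : 0 < q) (ho : orderOf (q : ZMod r) = e) (j : ℕ) : r ∣ q ^ j - 1 ↔ e ∣ j := by
  have h1 : 1 ≤ q ^ j := Nat.one_le_pow _ _ hq
  rw [← ho, orderOf_dvd_iff_pow_eq_one, ← ZMod.natCast_eq_zero_iff, Nat.cast_sub h1, sub_eq_zero]
  push_cast
  rfl

/-- `n` is even if a prime `r` of order `2 (n - 1)` divides `|GU_n(q)|` -/
theorem even_of_dvd_gu {r q n : ℕ} (hr : r.Prime) (hn : 4 ≤ n) (hrq : ¬ r ∣ q)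
    (ho : ∀ j, r ∣ q ^ j - 1 ↔ 2 * (n - 1) ∣ j) (hd : r ∣ GU n q) : Even n := by
  rw [GU, hr.dvd_mul] at hd
  rcases hd with hd | hd
  · exact absurd (hr.dvd_of_dvd_pow hd) hrq
  · obtain ⟨i, hi, hid⟩ := (hr.prime.dvd_finsetProd_iff _).1 hd
    rw [Finset.mem_range] at hi
    split_ifs at hid with he
    · have h1 : r ∣ q ^ (2 * (i + 1)) - 1 := by
        have h2 : q ^ (2 * (i + 1)) - 1 = (q ^ (i + 1) + 1) * (q ^ (i + 1) - 1) := by
          rw [mul_comm 2, pow_mul, ← Nat.sq_sub_sq, one_pow]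
        rw [h2]
        exact hid.mul_right _
      rw [ho] at h1
      have h2 := Nat.dvd_of_mul_dvd_mul_left two_pos h1
      obtain ⟨c, hc⟩ := h2
      have hc2 : c < 2 := by
        by_contra hcon
        have : (n - 1) * 2 ≤ (n - 1) * c := Nat.mul_le_mul_left _ (by omega)
        omega
      interval_cases c
      · omega
      · have : n = i + 2 := by omega
        rw [this]
        exact he.add even_two
    · rw [ho] at hid
      have := Nat.le_of_dvd (Nat.succ_pos i) hid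
      omega

/-- the types of the orders -/
def Ty (p f n c : ℕ) (P : Prop) : Prop :=
  (P ∧ c.factorization p = f * ((n - 1) * (n - 2))) ∨
  (P ∧ Even n ∧ c.factorization p = f * (n * (n - 1) / 2) ∧
    (n = 4 ∨ Nat.gcd 4 ((p ^ f) ^ n - 1) * c = GU n (p ^ f))) ∨
  (∃ k m, 0 < k ∧ 0 < m ∧ k * m = n - 1 ∧ Nat.gcd 4 ((p ^ f) ^ n - 1) * c = GU m ((p ^ f) ^ k) * (p ^ f + 1) ∧
    c.factorization p = f * (k * (m * (m - 1) / 2)) ∧ (¬ P → m = 1))

theorem Ty.le {p f n c : ℕ} {P : Prop} (hn : 4 ≤ n) (h : Ty p f n c P) :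
    c.factorization p ≤ f * ((n - 1) * (n - 2)) := by
  rcases h with ⟨-, h⟩ | ⟨-, -, h, -⟩ | ⟨k, m, hk, hm, hkm, -, h, -⟩
  · exact h.le
  · rw [h]
    apply Nat.mul_le_mul_left
    have h1 := even_mul n
    have h2 : (n - 1) * n ≤ (n - 1) * (2 * (n - 2)) := Nat.mul_le_mul_left _ (by omega)
    have h3 : (n - 1) * (2 * (n - 2)) = 2 * ((n - 1) * (n - 2)) := by ring
    rw [mul_comm n] at h1 ⊢
    omega
  · rw [h]
    apply Nat.mul_le_mul_left
    have h1 := exp_eq hkm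
    have h2 : m ≤ n - 1 := hkm ▸ Nat.le_mul_of_pos_left m hk
    have h3 : (n - 1) * (m - 1) ≤ (n - 1) * (n - 2) := Nat.mul_le_mul_left _ (by omega)
    omega

theorem lt_top {n : ℕ} (hn : 4 ≤ n) : (n - 1) * (n - 2) < n * (n - 1) := by
  rw [mul_comm n]
  exact Nat.mul_lt_mul_of_pos_left (by omega) (by omega)

/-- **antichain, type II** -/
theorem Ty.eq_two {p f n c c' : ℕ} {P' : Prop} (hn : 4 < n) (hf : 1 ≤ f)
    (hg : 0 < Nat.gcd 4 ((p ^ f) ^ n - 1)) (hc : Nat.gcd 4 ((p ^ f) ^ n - 1) * c = GU n (p ^ f))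
    (hv : c.factorization p = f * (n * (n - 1) / 2)) (h' : Ty p f n c' P')
    (he : c'.factorization p = c.factorization p) : c' = c := by
  rw [hv] at he
  have h1 := even_mul n
  rcases h' with ⟨-, h⟩ | ⟨-, -, h, h2⟩ | ⟨k, m, hk, hm, hkm, -, h, -⟩
  · exfalso
    rw [h] at he
    have h3 := Nat.eq_of_mul_eq_mul_left (by omega : 0 < f) he
    rw [← h3, mul_comm n, ← mul_assoc, mul_comm 2, mul_assoc] at h1
    have h4 := Nat.eq_of_mul_eq_mul_left (by omega : 0 < n - 1) h1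
    omega
  · rcases h2 with h2 | h2
    · omega
    · exact Nat.eq_of_mul_eq_mul_left hg (h2.trans hc.symm)
  · exfalso
    rw [h] at he
    have h3 := Nat.eq_of_mul_eq_mul_left (by omega : 0 < f) he
    have h4 := exp_eq hkm
    rw [h3, h1, mul_comm n] at h4
    have h5 := Nat.eq_of_mul_eq_mul_left (by omega : 0 < n - 1) h4
    have h2 : m ≤ n - 1 := hkm ▸ Nat.le_mul_of_pos_left m hk
    omega

/-- **antichain, type III** -/
theorem Ty.eq_three {p f n c c' k m : ℕ} {P' : Prop} (hn : 4 ≤ n) (hf : 1 ≤ f)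
    (hg : 0 < Nat.gcd 4 ((p ^ f) ^ n - 1)) (hk : 0 < k) (hm : 0 < m) (hkm : k * m = n - 1)
    (hc : Nat.gcd 4 ((p ^ f) ^ n - 1) * c = GU m ((p ^ f) ^ k) * (p ^ f + 1))
    (hv : c.factorization p = f * (k * (m * (m - 1) / 2))) (h' : Ty p f n c' P')
    (he : c'.factorization p = c.factorization p) : c' = c := by
  rw [hv] at he
  have h1 := exp_eq hkm
  have h2 : m ≤ n - 1 := hkm ▸ Nat.le_mul_of_pos_left m hk
  rcases h' with ⟨-, h⟩ | ⟨-, -, h, -⟩ | ⟨k', m', hk', hm', hkm', hc', h, -⟩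
  · exfalso
    rw [h] at he
    have h3 := Nat.eq_of_mul_eq_mul_left (by omega : 0 < f) he
    rw [← h3, ← mul_assoc, mul_comm 2, mul_assoc] at h1
    have h4 := Nat.eq_of_mul_eq_mul_left (by omega : 0 < n - 1) h1
    omega
  · exfalso
    rw [h] at he
    have h3 := Nat.eq_of_mul_eq_mul_left (by omega : 0 < f) he
    have h4 := even_mul n
    rw [h3, h1, mul_comm n] at h4
    have h5 := Nat.eq_of_mul_eq_mul_left (by omega : 0 < n - 1) h4
    omega
  · rw [h] at he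
    have h3 := Nat.eq_of_mul_eq_mul_left (by omega : 0 < f) he
    have h4 := exp_eq hkm'
    rw [h3, h1] at h4
    have h5 := Nat.eq_of_mul_eq_mul_left (by omega : 0 < n - 1) h4
    have h6 : m = m' := by omega
    subst h6
    have h7 : k = k' := Nat.eq_of_mul_eq_mul_right hm (hkm.trans hkm'.symm)
    subst h7
    exact Nat.eq_of_mul_eq_mul_left hg (hc'.trans hc.symm)

end arith

section lat

variable {F : Type v} [Field F] [Fintype F] {p f n r : ℕ}

theorem r_facts (hn : 4 ≤ n) (hf : 1 ≤ f) (hr : r.Prime) (ho : orderOf (((p ^ f : ℕ)) : ZMod r) = 2 * (n - 1)) :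
    ¬ r ∣ p ^ f ∧ 2 * (n - 1) + 1 ≤ r ∧ r ≠ p := by
  have hrf : Fact r.Prime := ⟨hr⟩
  have h0 : ((p ^ f : ℕ) : ZMod r) ≠ 0 := by
    intro h
    rw [h] at ho
    have h2 : orderOf (0 : ZMod r) = 0 := by
      rw [orderOf_eq_zero_iff']
      intro n hn h3
      rw [zero_pow hn.ne'] at h3
      exact zero_ne_one h3
    rw [h2] at ho
    omega
  have h1 : ¬ r ∣ p ^ f := fun h => h0 ((ZMod.natCast_eq_zero_iff _ _).2 h)
  have h2 := ZMod.orderOf_dvd_card_sub_one h0
  rw [ho] at h2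
  have h3 := Nat.le_of_dvd (by have := hr.two_le; omega) h2
  have h4 : r ≠ p := by
    rintro rfl
    exact h1 (dvd_pow_self r (by omega))
  exact ⟨h1, by omega, h4⟩

theorem two_ne_of (hp : p.Prime) (hF : Fintype.card F = p ^ f) (h2 : (2 : F) ≠ 0) : ¬ p ∣ 2 := by
  intro h
  have h3 : p = 2 := (Nat.prime_dvd_prime_iff_eq hp Nat.prime_two).1 h
  have h4 : Odd (Fintype.card F) := Cfsg.Agent.LieClassical.PomegaCard.odd_card_iff.2 h2
  rw [hF, h3] at h4
  rcases Nat.eq_zero_or_pos f with rfl | hf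
  · rw [pow_zero] at hF
    exact (Fintype.one_lt_card (α := F)).ne' hF
  · exact absurd h4 (Nat.not_odd_iff_even.2 (Nat.even_pow.2 ⟨even_two, hf.ne'⟩))

/-- `PΩ⁺(2n,q)`, `r` of order `2 n - 2` (task 4438) -/
theorem lat_plus_sub (hp : p.Prime) (hf : 1 ≤ f) (hF : Fintype.card F = p ^ f) (hn : 4 ≤ n) (hr : r.Prime)
    (ho : orderOf (((p ^ f : ℕ)) : ZMod r) = 2 * (n - 1)) (hX : n = 4 ∨ Odd n ∨ p ^ f % 4 ≠ 3) :
    Lat (POmega F (quadFormPlus n F)) p r (((p ^ f) ^ (n - 1) + 1) * (p ^ f + 1) / Nat.gcd 4 ((p ^ f) ^ n - 1)) := by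
  obtain ⟨hrq, hr7, hrp⟩ := r_facts hn hf hr ho
  have hrf : Fact r.Prime := ⟨hr⟩
  have hpf : Fact p.Prime := ⟨hp⟩
  have hq0 : 0 < p ^ f := pow_pos hp.pos f
  have hpq : p ∣ p ^ f := dvd_pow_self p (by omega)
  have hq2 : 2 ≤ p ^ f := hp.two_le.trans (Nat.le_of_dvd hq0 hpq)
  have hord := dvd_iff_ord hq0 ho
  set g := Nat.gcd 4 ((p ^ f) ^ n - 1) with hg
  have hg0 : 0 < g := Nat.gcd_pos_of_pos_left _ (by norm_num)
  have hg4 : g ∣ 4 := Nat.gcd_dvd_left _ _
  have hgle : g ≤ 4 := Nat.le_of_dvd (by norm_num) hg4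
  have hrg : ¬ r ∣ g := by
    intro h
    have := Nat.le_of_dvd hg0 h
    omega
  have hpg : ¬ p ∣ g := fun h => nd_sub hp hq0 hpq (by omega) (h.trans (Nat.gcd_dvd_right _ _))
  set S := POmega F (quadFormPlus n F) with hS
  have hgm : g ∣ ((p ^ f) ^ (n - 1) + 1) * (p ^ f + 1) := by
    rcases Nat.even_or_odd (p ^ f) with he | he
    · have h1 : Odd ((p ^ f) ^ n - 1) :=
        Nat.Even.sub_odd (Nat.one_le_pow _ _ hq0) (he.pow_of_ne_zero (by omega)) odd_one
      have h2 : g = 1 := Cfsg.Agent.LieClassical.PomegaCard.gcd_four_of_odd (Nat.odd_iff.1 h1)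
      rw [h2]
      exact one_dvd _
    · have h1 : 2 ∣ (p ^ f) ^ (n - 1) + 1 := (he.pow.add_one).two_dvd
      have h2 : 2 ∣ p ^ f + 1 := (he.add_one).two_dvd
      exact hg4.trans (mul_dvd_mul h1 h2)
  set m0 := ((p ^ f) ^ (n - 1) + 1) * (p ^ f + 1) / g with hm0
  have hm0g : g * m0 = ((p ^ f) ^ (n - 1) + 1) * (p ^ f + 1) := Nat.mul_div_cancel' hgm
  have hpm : ¬ p ∣ m0 := by
    intro h
    have h1 : p ∣ ((p ^ f) ^ (n - 1) + 1) * (p ^ f + 1) := by
      rw [← hm0g]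
      exact h.mul_left _
    rcases (hp.dvd_mul.1 h1) with h2 | h2
    · exact nd_add hp hpq (by omega) h2
    · have h3 : ¬ p ∣ (p ^ f) ^ 1 + 1 := nd_add hp hpq one_pos
      rw [pow_one] at h3
      exact h3 h2
  -- `|S|`
  have hcS : g * Nat.card S = (p ^ f) ^ (n * (n - 1)) * ((p ^ f) ^ n - 1) *
      ∏ i ∈ Finset.range (n - 1), ((p ^ f) ^ (2 * (i + 1)) - 1) := Cfsg.Agent.S0293.result hF n hn
  have hpS : (Nat.card S).factorization p = f * (n * (n - 1)) := by
    refine fact_of hp hpg (X := ((p ^ f) ^ n - 1) * ∏ i ∈ Finset.range (n - 1), ((p ^ f) ^ (2 * (i + 1)) - 1)) ?_ ?_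
    · rw [hp.dvd_mul, not_or]
      exact ⟨nd_sub hp hq0 hpq (by omega), nd_prod hp hq0 hpq⟩
    · rw [hcS, ← pow_mul, mul_assoc]
  have hprod : (∏ i ∈ Finset.range (n - 1), ((p ^ f) ^ (2 * (i + 1)) - 1)) =
      (∏ i ∈ Finset.range (n - 2), ((p ^ f) ^ (2 * (i + 1)) - 1)) *
        (((p ^ f) ^ (n - 1) + 1) * ((p ^ f) ^ (n - 1) - 1)) := by
    have h1 : n - 1 = (n - 2) + 1 := by omega
    have h2 : (p ^ f) ^ (2 * (n - 2 + 1)) - 1 = ((p ^ f) ^ (n - 2 + 1) + 1) * ((p ^ f) ^ (n - 2 + 1) - 1) := by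
      rw [mul_comm 2, pow_mul, ← Nat.sq_sub_sq, one_pow]
    rw [h1, Finset.prod_range_succ, h2]
  have hcS' : g * Nat.card S = ((p ^ f) ^ (n * (n - 1)) * ((p ^ f) ^ n - 1) *
      (∏ i ∈ Finset.range (n - 2), ((p ^ f) ^ (2 * (i + 1)) - 1)) * ((p ^ f) ^ (n - 1) - 1)) *
        ((p ^ f) ^ (n - 1) + 1) := by
    rw [hcS, hprod]
    ring
  have hrA : ¬ r ∣ (p ^ f) ^ (n * (n - 1)) * ((p ^ f) ^ n - 1) *
      (∏ i ∈ Finset.range (n - 2), ((p ^ f) ^ (2 * (i + 1)) - 1)) * ((p ^ f) ^ (n - 1) - 1) := by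
    have hsm : ∀ j, 0 < j → j < 2 * (n - 1) → ¬ r ∣ (p ^ f) ^ j - 1 := by
      intro j hj hj2 h
      rw [hord] at h
      have := Nat.le_of_dvd hj h
      omega
    rw [hr.dvd_mul, hr.dvd_mul, hr.dvd_mul, not_or, not_or, not_or]
    refine ⟨⟨⟨fun h => hrq (hr.dvd_of_dvd_pow h), hsm _ (by omega) (by omega)⟩, ?_⟩, hsm _ (by omega) (by omega)⟩
    intro hd
    obtain ⟨i, hi, hid⟩ := (hr.prime.dvd_finsetProd_iff _).1 hd
    rw [Finset.mem_range] at hi
    exact hsm _ (by omega) (by omega) hid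
  have hr1 : r ∣ (p ^ f) ^ (n - 1) + 1 := by
    have h2 : (p ^ f) ^ (2 * (n - 1)) - 1 = ((p ^ f) ^ (n - 1) + 1) * ((p ^ f) ^ (n - 1) - 1) := by
      rw [mul_comm 2, pow_mul, ← Nat.sq_sub_sq, one_pow]
    have h3 : r ∣ (p ^ f) ^ (2 * (n - 1)) - 1 := (hord _).2 dvd_rfl
    rw [h2] at h3
    refine (hr.dvd_mul.1 h3).resolve_right fun h => ?_
    rw [hord] at h
    have := Nat.le_of_dvd (by omega) h
    omega
  have hrS : r ∣ Nat.card S := by
    have h1 : r ∣ g * Nat.card S := by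
      rw [hcS']
      exact hr1.mul_left _
    exact (hr.dvd_mul.1 h1).resolve_left hrg
  have hfull : r ^ (Nat.card S).factorization r ∣ m0 := by
    have h1 : r ^ (Nat.card S).factorization r ∣ g * Nat.card S := (Nat.ordProj_dvd _ _).mul_left _
    rw [hcS'] at h1
    have h2 : r ^ (Nat.card S).factorization r ∣ (p ^ f) ^ (n - 1) + 1 :=
      Nat.Coprime.dvd_of_dvd_mul_left (Nat.Coprime.pow_left _ ((Nat.Prime.coprime_iff_not_dvd hr).2 hrA)) h1
    have h3 : r ^ (Nat.card S).factorization r ∣ g * m0 := by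
      rw [hm0g]
      exact h2.mul_right _
    exact Nat.Coprime.dvd_of_dvd_mul_left (Nat.Coprime.pow_left _ ((Nat.Prime.coprime_iff_not_dvd hr).2 hrg)) h3
  -- the list
  have hlist : ∀ x : S, x ≠ 1 → r ∣ Nat.card (Subgroup.centralizer ({x} : Set S)) →
      Ty p f n (Nat.card (Subgroup.centralizer ({x} : Set S))) (x ^ r ≠ 1) := by
    intro x hx hrx
    have hl := plist (F := F) hn hr (by omega) (by rw [hF]; exact hrq) (by rw [hF]; exact ho) hx hrx
    rw [hF, ← hg] at hl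
    rcases hl with ⟨h1, a, ha, h2⟩ | ⟨h1, a, ha, h2⟩ | ⟨k, m, hk, hm, hkm, h1, h2⟩
    · refine Or.inl ⟨h1, ?_⟩
      have hpa : ¬ p ∣ a := by
        rcases ha with rfl | ⟨rfl, ha⟩
        · exact fun h => hp.one_lt.ne' (Nat.dvd_one.1 h)
        · exact two_ne_of hp hF ha
      refine fact_of hp hpg (X := ((p ^ f) ^ (n - 1) + 1) *
        (∏ i ∈ Finset.range (n - 2), ((p ^ f) ^ (2 * (i + 1)) - 1)) * ((p ^ f + 1) * a)) ?_ ?_
      · have h3 : ¬ p ∣ (p ^ f) ^ 1 + 1 := nd_add hp hpq one_pos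
        rw [pow_one] at h3
        rw [hp.dvd_mul, hp.dvd_mul, hp.dvd_mul, not_or, not_or, not_or]
        exact ⟨⟨nd_add hp hpq (by omega), nd_prod hp hq0 hpq⟩, h3, hpa⟩
      · rw [h2, ← pow_mul]
    · have hpa : ¬ p ∣ a := by
        rcases ha with rfl | ⟨rfl, ha, -⟩
        · exact fun h => hp.one_lt.ne' (Nat.dvd_one.1 h)
        · exact two_ne_of hp hF ha
      have hra : ¬ r ∣ a := by
        rcases ha with rfl | ⟨rfl, -, -⟩
        · exact fun h => hr.one_lt.ne' (Nat.dvd_one.1 h)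
        · intro h
          have := Nat.le_of_dvd two_pos h
          omega
      have hev : Even n := by
        have h3 : r ∣ a * GU n (p ^ f) := by
          rw [← h2]
          exact hrx.mul_left _
        exact even_of_dvd_gu hr hn hrq hord ((hr.dvd_mul.1 h3).resolve_left hra)
      refine Or.inr (Or.inl ⟨h1, hev, ?_, ?_⟩)
      · refine fact_of hp hpg (X := a * ∏ i ∈ Finset.range n,
          (if Even i then (p ^ f) ^ (i + 1) + 1 else (p ^ f) ^ (i + 1) - 1)) ?_ ?_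
        · rw [hp.dvd_mul, not_or]
          exact ⟨hpa, nd_gu hp hq2 hpq⟩
        · rw [h2, GU, ← pow_mul]
          ring
      · rcases hX with h | h | h
        · exact Or.inl h
        · exact absurd hev (Nat.not_even_iff_odd.2 h)
        · right
          rcases ha with rfl | ⟨rfl, -, ha⟩
          · rw [← hg, h2, one_mul]
          · exfalso
            apply ha
            rw [FiniteField.isSquare_neg_one_iff, hF]
            exact h
    · refine Or.inr (Or.inr ⟨k, m, hk, hm, hkm, h1, ?_, fun h => h2 (not_not.1 h)⟩)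
      have hQ2 : 2 ≤ (p ^ f) ^ k := hq2.trans (Nat.le_self_pow (by omega) _)
      refine fact_of hp hpg (X := (∏ i ∈ Finset.range m,
          (if Even i then ((p ^ f) ^ k) ^ (i + 1) + 1 else ((p ^ f) ^ k) ^ (i + 1) - 1)) * (p ^ f + 1)) ?_ ?_
      · have h3 : ¬ p ∣ (p ^ f) ^ 1 + 1 := nd_add hp hpq one_pos
        rw [pow_one] at h3
        rw [hp.dvd_mul, not_or]
        exact ⟨nd_gu hp hQ2 (dvd_pow hpq (by omega)), h3⟩
      · rw [h1, GU, ← pow_mul, ← pow_mul, mul_assoc]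
  have hne1 : ∀ x : S, Nat.card (Subgroup.centralizer ({x} : Set S)) ≠ Nat.card S → x ≠ 1 := by
    rintro x hc rfl
    apply hc
    have : Subgroup.centralizer ({1} : Set S) = ⊤ := by
      rw [eq_top_iff]
      intro y _
      rw [Subgroup.mem_centralizer_singleton_iff]
      simp
    rw [this, Subgroup.card_top]
  have hone : ∀ (c k m : ℕ), k * m = n - 1 → m = 1 → g * c = GU m ((p ^ f) ^ k) * (p ^ f + 1) → c = m0 := by
    intro c k m hkm hm h
    subst hm
    rw [mul_one] at hkm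
    apply Nat.eq_of_mul_eq_mul_left hg0
    rw [h, hm0g, hkm]
    congr 1
    exact Cfsg.Agent.H510.CS.gu_one _
  -- elements of order `r`
  have hordr : ∀ y : S, orderOf y = r → Nat.card (Subgroup.centralizer ({y} : Set S)) = m0 := by
    intro y hy
    have hy1 : y ≠ 1 := by
      rintro rfl
      rw [orderOf_one] at hy
      exact hr.one_lt.ne hy
    have hyr : y ^ r = 1 := by rw [← hy]; exact pow_orderOf_eq_one y
    rcases hlist y hy1 (dvd_cent (Commute.refl y) hy.symm.dvd) with ⟨h, -⟩ | ⟨h, -⟩ | ⟨k, m, hk, hm, hkm, hc, -, h⟩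
    · exact absurd hyr h
    · exact absurd hyr h
    · exact hone _ k m hkm (h (not_not.2 hyr)) hc
  refine ⟨hrS, ?_, ?_, hfull, hpm, ?_, ?_, ?_⟩
  · -- h0
    have hpS1 : p ∣ Nat.card S := by
      have h1 : p ∣ g * Nat.card S := by
        rw [hcS, mul_assoc]
        apply Dvd.dvd.mul_right
        apply dvd_pow hpq
        have : 0 < n * (n - 1) := Nat.mul_pos (by omega) (by omega)
        omega
      exact (hp.dvd_mul.1 h1).resolve_left hpg
    obtain ⟨x, hx⟩ := exists_prime_orderOf_dvd_card' p hpS1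
    refine ⟨_, mem_co x, ?_⟩
    intro hrx
    obtain ⟨⟨y, hy⟩, hyr⟩ := exists_prime_orderOf_dvd_card' r hrx
    rw [Subgroup.orderOf_mk] at hyr
    apply hpm
    rw [← hordr y hyr]
    exact dvd_cent (mem_cent.1 hy).symm hx.symm.dvd
  · -- mem
    obtain ⟨y, hy⟩ := exists_prime_orderOf_dvd_card' r hrS
    exact ⟨y, hordr y hy⟩
  · -- one
    rintro _ ⟨x, rfl⟩ hcx hrx hpx
    dsimp only at hcx hrx hpx ⊢
    have hfac := Nat.factorization_eq_zero_of_not_dvd hpx
    rcases hlist x (hne1 x hcx) hrx with ⟨-, h⟩ | ⟨-, -, h, -⟩ | ⟨k, m, hk, hm, hkm, hc, h, -⟩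
    · exfalso
      rw [hfac] at h
      have : 0 < f * ((n - 1) * (n - 2)) := Nat.mul_pos hf (Nat.mul_pos (by omega) (by omega))
      omega
    · exfalso
      rw [hfac] at h
      have h2 := even_mul n
      have h3 : 0 < n * (n - 1) := Nat.mul_pos (by omega) (by omega)
      have : 0 < f * (n * (n - 1) / 2) := Nat.mul_pos hf (by omega)
      omega
    · apply hone _ k m hkm _ hc
      rw [hfac] at h
      have h2 : k * (m * (m - 1) / 2) = 0 := by
        rcases Nat.mul_eq_zero.1 h.symm with h | h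
        · omega
        · exact h
      have h3 := exp_eq hkm
      rw [h2, mul_zero] at h3
      rcases Nat.mul_eq_zero.1 h3.symm with h | h
      · omega
      · omega
  · -- h3
    rintro _ ⟨x, rfl⟩ hcx hrx hpx
    dsimp only at hcx hrx hpx
    rw [hp.pow_dvd_iff_le_factorization Nat.card_pos.ne', hpS] at hpx
    have h1 := (hlist x (hne1 x hcx) hrx).le hn
    have h2 : f * ((n - 1) * (n - 2)) < f * (n * (n - 1)) := Nat.mul_lt_mul_of_pos_left (lt_top hn) hf
    exact absurd (hpx.trans h1) (not_le.2 h2)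
  · -- h4
    rintro _ ⟨x, rfl⟩ hcx hrx hpx
    dsimp only at hcx hrx hpx ⊢
    have hright : ∀ x' : S, Nat.card (Subgroup.centralizer ({x'} : Set S)) ∣
        Nat.card (Subgroup.centralizer ({x} : Set S)) → x' ≠ 1 := by
      intro x' hdvd
      refine hne1 x' fun h => hcx ?_
      exact Nat.dvd_antisymm (Subgroup.card_subgroup_dvd_card _) (h ▸ hdvd)
    rcases hlist x (hne1 x hcx) hrx with ⟨-, h⟩ | ⟨-, -, h, h4⟩ | ⟨k, m, hk, hm, hkm, hc, h, -⟩
    · left
      rintro _ ⟨x', rfl⟩ hcx' hrx'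
      dsimp only at hcx' hrx' ⊢
      rw [h]
      exact (hlist x' (hne1 x' hcx') hrx').le hn
    · rcases Nat.lt_or_ge 4 n with hn4 | hn4
      · right
        rintro _ ⟨x', rfl⟩ hrx' hdvd hfac
        dsimp only at hrx' hdvd hfac ⊢
        exact Ty.eq_two hn4 hf hg0 (h4.resolve_left (by omega)) h (hlist x' (hright x' hdvd) hrx') hfac
      · left
        have hn' : n = 4 := by omega
        rintro _ ⟨x', rfl⟩ hcx' hrx'
        dsimp only at hcx' hrx' ⊢
        rw [h]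
        refine ((hlist x' (hne1 x' hcx') hrx').le hn).trans (le_of_eq ?_)
        rw [hn']
    · right
      rintro _ ⟨x', rfl⟩ hrx' hdvd hfac
      dsimp only at hrx' hdvd hfac ⊢
      exact Ty.eq_three hn hf hg0 hk hm hkm hc h (hlist x' (hright x' hdvd) hrx') hfac

end lat

end Cfsg.Agent.H286.CS
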