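import Cfsg.Agent.H286.CS.Count2
import Cfsg.Agent.H510.CS.Irr

/-!
# The isometries commuting up to sign with `X`, where `X` commutes with `T` of order `r`, `ord_r(q) = 2 n - 2`, plus type
(helper286, for S3677)
-/

set_option autoImplicit false
set_option linter.unusedSectionVars false

namespace Cfsg.Agent.H286.CS

open Module QuadraticMap Polynomial
open Cfsg.Agent.LieClassical.OrthCore Cfsg.Agent.H955

universe u v

section main

variable {F : Type u} [Field F] [Finite F] {V : Type v} [AddCommGroup V] [Module F V] [FiniteDimensional F V]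
  {Q : QuadraticForm F V}

/-- the commutator space and the fixed space of an isometry of order `r`, `e(r,q) = 2 n - 2` (after `H41.OrthFive.split`). -/
theorem split (hQ : Nondeg Q) {n : ℕ} (hn : 3 ≤ n) (hd : finrank F V = 2 * n) (hP : IsPlus Q)
    {r : ℕ} [hr : Fact r.Prime] (hr2 : 2 < r) (hrF : ¬ r ∣ Nat.card F)
    (he : orderOf (Nat.card F : ZMod r) = 2 * (n - 1)) {T : V ≃ₗ[F] V} (hT : T ∈ O Q) (hTr : T ^ r = 1) (hT1 : T ≠ 1) :
    Nondeg (res Q (comS T)) ∧ finrank F (comS T) = 2 * (n - 1) ∧ finrank F (perp Q (comS T)) = 2 ∧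
      ¬ IsPlus (res Q (comS T)) ∧ (∀ v : perp Q (comS T), res Q (perp Q (comS T)) v = 0 → v = 0) ∧ Irr T (comS T) := by
  have hcc : cc (Nat.card F) r = 2 * (n - 1) := by rw [cc, he, if_pos (even_two_mul _)]
  obtain ⟨hnd, t, ht, htp⟩ := blocks_of_comS hQ hT hr2 hrF hTr
  rw [hcc] at ht
  rw [he] at htp
  have h1 : finrank F (comS T) ≤ finrank F V := Submodule.finrank_le _
  have h0 : comS T ≠ ⊥ := by
    intro h
    apply hT1
    apply LinearEquiv.ext
    intro v
    have h4 := sub_mem_comS T v
    rw [h, Submodule.mem_bot, sub_eq_zero] at h4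
    exact h4
  have h4 : 0 < finrank F (comS T) := by
    rw [Nat.pos_iff_ne_zero]
    intro h
    exact h0 (Submodule.finrank_eq_zero.1 h)
  have ht1 : t = 1 := by
    have h5 : t ≠ 0 := by
      rintro rfl
      rw [mul_zero] at ht
      omega
    have h6 : t < 2 := by
      by_contra hlt
      push Not at hlt
      have : 2 * (n - 1) * 2 ≤ 2 * (n - 1) * t := Nat.mul_le_mul_left _ hlt
      omega
    omega
  subst ht1
  rw [mul_one] at ht
  have hd2 : finrank F (perp Q (comS T)) = 2 := by
    have := finrank_add_perp hQ (comS T)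
    omega
  have hnp : ¬ IsPlus (res Q (comS T)) := by
    rw [htp]
    rintro (h | h)
    · exact absurd h (Nat.not_odd_iff_even.2 (even_two_mul _))
    · exact absurd h (by decide)
  have hnp2 : ¬ IsPlus (res Q (perp Q (comS T))) := by
    have h5 := (isPlus_iff_perp hQ hnd (by rw [hd]; exact even_two_mul _) (by rw [ht]; exact even_two_mul _)).1 hP
    rw [← h5]
    exact hnp
  have hndp := nondeg_perp hQ hnd
  refine ⟨hnd, ht, hd2, hnp, ?_, ?_⟩
  · intro v hv
    by_contra hv0
    apply hnp2
    refine isPlus_of_le hndp (U := Submodule.span F {v}) ?_ ?_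
    · intro u hu
      obtain ⟨c, rfl⟩ := Submodule.mem_span_singleton.1 hu
      rw [QuadraticMap.map_smul, hv, smul_zero]
    · rw [hd2, finrank_span_singleton hv0]
  · refine ⟨h0, inv_comS T, fun W hW hWi => ?_⟩
    by_cases hW0 : W = ⊥
    · exact Or.inl hW0
    · right
      obtain ⟨M, hM, hMi⟩ := exists_irr (T := T) _ (W := W) rfl hWi hW0
      have h6 := hMi.finrank_eq hTr hrF (fun w hw => free_comS (natCast_ne_zero_of_not_dvd hrF) hTr w (hW (hM hw)))
      refine Submodule.eq_of_le_of_finrank_le hW ?_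
      rw [ht, ← he, ← h6]
      exact Submodule.finrank_mono hM

/-- an element commuting with `T` -/
theorem exists_wB (hQ : Nondeg Q) (hD : Mult Q) {n : ℕ} (hn : 3 ≤ n) (hd : finrank F V = 2 * n)
    {T : V ≃ₗ[F] V} (hT : T ∈ O Q) (hnd : Nondeg (res Q (comS T)))
    (hdW : finrank F (comS T) = 2 * (n - 1)) (hdU : finrank F (perp Q (comS T)) = 2) (hirr : Irr T (comS T))
    {X : V ≃ₗ[F] V} (hX : X ∈ O Q) (hXev : ev X) (hc : ∀ v, X (T v) = T (X v)) :
    ∃ (w : comS T ≃ₗ[F] comS T) (B : perp Q (comS T) ≃ₗ[F] perp Q (comS T)), X = glue hnd (w, B) ∧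
      w ∈ O (res Q (comS T)) ∧ B ∈ O (res Q (perp Q (comS T))) ∧ ev B ∧
      (∀ P : F[X], aeval (w : Module.End F (comS T)) P = 0 ∨ Function.Injective (aeval (w : Module.End F (comS T)) P)) ∧
      ((∃ v, w (w v) ≠ v) ∨ ∃ e : F, (e = 1 ∨ e = -1) ∧ ∀ a, w a = e • a) := by
  have hntW : Nontrivial (comS T) := Module.nontrivial_of_finrank_pos (R := F) (by omega)
  obtain ⟨w, B, rfl⟩ := exists_glue hnd hX (by
    intro a ha
    obtain ⟨v, rfl⟩ := mem_comS.1 ha
    rw [map_sub, hc]
    exact sub_mem_comS T _)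
  have hO := (glue_mem_O hnd).1 hX
  have hcw : ∀ a : comS T, (resT T (comS T) (inv_comS T)) (w a) = w ((resT T (comS T) (inv_comS T)) a) := by
    intro a
    apply Subtype.ext
    have h1 := hc (a : V)
    have h2 : T (a : V) = ((resT T (comS T) (inv_comS T) a : comS T) : V) := rfl
    rw [h2, glue_left, glue_left] at h1
    exact h1.symm
  have hdich := dich (A := (w : Module.End F (comS T)))
    (T := (resT T (comS T) (inv_comS T) : Module.End F (comS T))) (fun v => hcw v) (by
      intro M hM
      have h1 := hirr.min (M.map (comS T).subtype) (by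
        rintro x ⟨a, -, rfl⟩
        exact a.2) (by
        rintro x ⟨a, ha, rfl⟩
        exact ⟨_, hM a ha, rfl⟩)
      rcases h1 with h1 | h1
      · left
        rw [eq_bot_iff]
        intro a ha
        have h2 : (a : V) ∈ M.map (comS T).subtype := ⟨a, ha, rfl⟩
        rw [h1, Submodule.mem_bot] at h2
        exact (Submodule.mem_bot F).2 (Subtype.ext h2)
      · right
        rw [eq_top_iff]
        intro a _
        have h2 : (a : V) ∈ M.map (comS T).subtype := by rw [h1]; exact a.2
        obtain ⟨b, hb, hba⟩ := h2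
        have : b = a := Subtype.ext hba
        rw [← this]
        exact hb)
  have hcases : (∃ v, w (w v) ≠ v) ∨ ∃ e : F, (e = 1 ∨ e = -1) ∧ ∀ a, w a = e • a := by
    by_cases h : ∃ v, w (w v) ≠ v
    · exact Or.inl h
    · right
      push Not at h
      rcases hdich (Polynomial.X - C 1 : F[X]) with h1 | h1
      · refine ⟨1, Or.inl rfl, fun a => ?_⟩
        have h2 := LinearMap.congr_fun h1 a
        rw [map_sub, aeval_X, aeval_C, map_one, LinearMap.sub_apply, Module.End.one_apply, LinearMap.zero_apply,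
          sub_eq_zero] at h2
        rw [one_smul]
        exact h2
      · refine ⟨-1, Or.inr rfl, fun a => ?_⟩
        have h2 : w a + a = 0 := by
          apply h1
          rw [map_zero, map_sub, aeval_X, aeval_C, map_one, LinearMap.sub_apply, Module.End.one_apply, sub_eq_zero]
          change w (w a + a) = w a + a
          rw [map_add, h, add_comm]
        rw [neg_one_smul]
        exact eq_neg_of_add_eq_zero_left h2
  refine ⟨w, B, rfl, hO.1, hO.2, ?_, hdich, hcases⟩
  have hw : ev w := by
    rcases hcases with h | ⟨e, he, hwe⟩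
    · obtain ⟨k, m, hk, hm, hkm, hdeg, -⟩ := Cfsg.Agent.H510.CS.card_cent (frm_polar (res Q (comS T))) (nd_polar hnd)
        (Or.inl rfl) (fun u v => polar_map hO.1 u v) (irr_minpoly hdich) h
      have h3 := dvd_finrank (irr_minpoly hdich) (fixS w) (fun v hv => by
        rw [mem_fixS] at hv ⊢
        exact congrArg w hv)
      rw [hdeg] at h3
      exact even_iff_two_dvd.2 ((Dvd.intro _ rfl).trans h3)
    · have hev : Even (finrank F (comS T)) := by rw [hdW]; exact even_two_mul _
      rcases he with rfl | rfl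
      · have : w = 1 := LinearEquiv.ext fun a => by rw [hwe, one_smul]; rfl
        rw [this]
        exact ev_one hev
      · have : w = LinearEquiv.neg F := LinearEquiv.ext fun a => by rw [hwe, neg_one_smul]; rfl
        rw [this]
        exact ev_neg hev
  have h1 := (ev_glue hnd).1 hXev
  tauto

/-- **The list.** -/
theorem list_X (hQ : Nondeg Q) (hD : Mult Q) {n : ℕ} (hn : 3 ≤ n) (hd : finrank F V = 2 * n) (hP : IsPlus Q)
    {r : ℕ} [hr : Fact r.Prime] (hr2 : 2 < r) (hrF : ¬ r ∣ Nat.card F)
    (he : orderOf (Nat.card F : ZMod r) = 2 * (n - 1)) {T : V ≃ₗ[F] V} (hT : T ∈ O Q) (hTr : T ^ r = 1) (hT1 : T ≠ 1)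
    {X : V ≃ₗ[F] V} (hX : X ∈ O Q) (hXev : ev X) (hc : ∀ v, X (T v) = T (X v)) (hX1 : ∃ v, X v ≠ v)
    (hX2 : ∃ v, X v ≠ -v) :
    (X ≠ T ∧ ∃ a, (a = 1 ∨ (a = 2 ∧ (2 : F) ≠ 0)) ∧ Nat.card (KK Q X) =
      Nat.card F ^ ((n - 1) * (n - 2)) * ((Nat.card F ^ (n - 1) + 1) *
        (∏ i ∈ Finset.range (n - 2), (Nat.card F ^ (2 * (i + 1)) - 1)) * ((Nat.card F + 1) * a))) ∨
    (X ≠ T ∧ ∃ a, (a = 1 ∨ (a = 2 ∧ (2 : F) ≠ 0 ∧ ¬ IsSquare (-1 : F))) ∧
      Nat.card (KK Q X) = a * GU n (Nat.card F)) ∨
    (∃ k m, 0 < k ∧ 0 < m ∧ k * m = n - 1 ∧ Nat.card (KK Q X) = GU m (Nat.card F ^ k) * (Nat.card F + 1) ∧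
      (X = T → m = 1)) := by
  obtain ⟨hnd, hdW, hdU, hnp, han, hirr⟩ := split hQ hn hd hP hr2 hrF he hT hTr hT1
  obtain ⟨w, B, hXg, hw, hB, hBev, hdich, hcases⟩ := exists_wB hQ hD hn hd hT hnd hdW hdU hirr hX hXev hc
  rcases hcases with hw2 | ⟨e, hee, hwe⟩
  · right
    by_cases hBi : Function.Injective (aeval (B : Module.End F (perp Q (comS T)))
      (minpoly F (w : Module.End F (comS T))))
    · right
      obtain ⟨k, m, hk, hm, hkm, hdeg, hcard⟩ := case_three hQ hD hn hd hnd hdW hdU han hw hB hBev hdich hw2 hBi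
      refine ⟨k, m, hk, hm, hkm, by rw [hXg]; exact hcard, ?_⟩
      rintro rfl
      -- `w = T` on `comS T`
      have hntW : Nontrivial (comS X) := Module.nontrivial_of_finrank_pos (R := F) (by omega)
      have hfF := Fintype.ofFinite F
      have hwX : ∀ (i : ℕ) (a : comS X), ((((w : Module.End F (comS X)) ^ i) a : comS X) : V) = (X ^ i) (a : V) := by
        intro i
        induction i with
        | zero => intro a; rfl
        | succ i ih =>
          intro a
          have h1 : ((w a : comS X) : V) = X (a : V) := by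
            have h0 := LinearEquiv.congr_fun hXg (a : V)
            rw [glue_left] at h0
            exact h0.symm
          rw [pow_succ, Module.End.mul_apply, pow_succ, LinearEquiv.mul_apply, ← h1]
          exact ih (w a)
      have hwr : (w : Module.End F (comS X)) ^ r = 1 := by
        apply LinearMap.ext
        intro a
        apply Subtype.ext
        rw [hwX, hTr]
        rfl
      have hw1 : (w : Module.End F (comS X)) ≠ 1 := by
        intro h
        obtain ⟨v, hv⟩ := hw2
        apply hv
        have h1 : ∀ v, w v = v := fun v => LinearMap.congr_fun h v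
        rw [h1, h1]
      have h1 := Cfsg.Agent.H510.CS.dvd_pow_sub_one hwr hw1 (irr_minpoly hdich)
      rw [hdeg, ← Nat.card_eq_fintype_card] at h1
      have h2 : 2 * (n - 1) ∣ 2 * k := by
        rw [← he]
        apply orderOf_dvd_of_pow_eq_one
        have h3 : 1 ≤ Nat.card F ^ (2 * k) := Nat.one_le_pow _ _ Nat.card_pos
        have h4 : ((Nat.card F ^ (2 * k) - 1 : ℕ) : ZMod r) = 0 := (ZMod.natCast_eq_zero_iff _ _).2 h1
        rw [Nat.cast_sub h3, sub_eq_zero] at h4
        push_cast at h4
        exact h4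
      have h3 := Nat.le_of_dvd (by omega) h2
      have h4 : k * m ≤ k * 1 := by omega
      have h5 := Nat.le_of_mul_le_mul_left h4 hk
      omega
    · left
      obtain ⟨a, ha, hcard⟩ := case_two hQ hD hn hd hnd hdW hdU han hw hB hBev hdich hw2 hBi
      refine ⟨?_, a, ha, by rw [hXg]; exact hcard⟩
      rintro rfl
      have hntW : Nontrivial (comS X) := Module.nontrivial_of_finrank_pos (R := F) (by omega)
      have hB1 : (B : Module.End F (perp Q (comS X))) = 1 := by
        apply LinearMap.ext
        intro b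
        apply Subtype.ext
        have h0 := LinearEquiv.congr_fun hXg (b : V)
        rw [glue_right] at h0
        have h1 : (b : V) ∈ fixS X := by rw [← perp_comS hQ hX]; exact b.2
        rw [mem_fixS.1 h1] at h0
        exact h0.symm
      apply hBi
      have h1 : aeval (B : Module.End F (perp Q (comS X))) (minpoly F (w : Module.End F (comS X))) =
          (eval 1 (minpoly F (w : Module.End F (comS X)))) • (1 : Module.End F (perp Q (comS X))) := by
        have h2 : (B : Module.End F (perp Q (comS X))) = algebraMap F _ 1 := by rw [hB1, map_one]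
        rw [h2, aeval_algebraMap_apply, ← Algebra.algebraMap_eq_smul_one, coe_aeval_eq_eval]
      rw [h1]
      have h3 : eval 1 (minpoly F (w : Module.End F (comS X))) ≠ 0 := by
        intro h4
        have hirr' := irr_minpoly hdich
        have h5 : (Polynomial.X - C 1) ∣ minpoly F (w : Module.End F (comS X)) := dvd_iff_isRoot.2 h4
        have h6 := (irreducible_X_sub_C (1 : F)).associated_of_dvd hirr' h5
        have h7 := eq_of_monic_of_associated (monic_X_sub_C (1 : F)) (minpoly.monic (Algebra.IsIntegral.isIntegral _)) h6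
        have h8 := minpoly.aeval F (w : Module.End F (comS X))
        rw [← h7, map_sub, aeval_X, aeval_C, map_one, sub_eq_zero] at h8
        obtain ⟨v, hv⟩ := hw2
        apply hv
        have h9 : ∀ v, w v = v := fun v => LinearMap.congr_fun h8 v
        rw [h9, h9]
      intro a b hab
      exact smul_right_injective _ h3 hab
  · left
    have hne : ∃ u, B u ≠ e • u := by
      by_contra hcon
      push Not at hcon
      have h1 : ∀ v, X v = e • v := by
        intro v
        obtain ⟨a, b, rfl⟩ := exists_add_perp hnd v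
        rw [hXg, glue_apply]
        change ((w a : comS T) : V) + ((B b : perp Q (comS T)) : V) = _
        rw [hwe, hcon, smul_add]
        rfl
      rcases hee with rfl | rfl
      · obtain ⟨v, hv⟩ := hX1
        exact hv (by rw [h1, one_smul])
      · obtain ⟨v, hv⟩ := hX2
        exact hv (by rw [h1, neg_one_smul])
    obtain ⟨a, ha, hcard⟩ := case_one hQ hD hn hd hnd hdW hdU han hB hBev hee hwe hne
    refine ⟨?_, a, ha, ?_⟩
    · rintro rfl
      have h1 : ∀ a : comS X, X (a : V) = e • (a : V) := by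
        intro a
        have h0 := LinearEquiv.congr_fun hXg (a : V)
        rw [glue_left, hwe] at h0
        exact h0
      have he2 : e * e = 1 := by rcases hee with rfl | rfl <;> ring
      have h2 : ∀ (k : ℕ) (a : V), a ∈ comS X → (X ^ (2 * k)) a = a := by
        intro k
        induction k with
        | zero => intro a _; rfl
        | succ k ih =>
          intro a ha
          rw [mul_add, mul_one, pow_add, LinearEquiv.mul_apply, pow_two, LinearEquiv.mul_apply, h1 ⟨a, ha⟩, map_smul,
            h1 ⟨a, ha⟩, smul_smul, he2, one_smul]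
          exact ih a ha
      obtain ⟨k, hk⟩ := hr.out.odd_of_ne_two (by omega)
      have h3 : ∀ a ∈ comS X, X a = a := by
        intro a ha
        have h4 : (X ^ r) a = a := by rw [hTr]; rfl
        rw [hk, pow_succ, LinearEquiv.mul_apply, h2 k _ (map_mem_comS ha)] at h4
        exact h4
      apply hT1
      apply LinearEquiv.ext
      intro v
      have h5 := free_comS (natCast_ne_zero_of_not_dvd hrF) hTr _ (sub_mem_comS X v) (h3 _ (sub_mem_comS X v))
      rw [sub_eq_zero] at h5
      exact h5
    rw [card_O_of_not_isPlus hnd (m := n - 1) hdW hnp] at hcard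
    have h1 : n - 1 - 1 = n - 2 := by omega
    rw [h1] at hcard
    rw [hXg]
    have h2 : 2 * Nat.card (KK Q (glue hnd (w, B))) = 2 * (Nat.card F ^ ((n - 1) * (n - 2)) * ((Nat.card F ^ (n - 1) + 1) *
        (∏ i ∈ Finset.range (n - 2), (Nat.card F ^ (2 * (i + 1)) - 1)) * ((Nat.card F + 1) * a))) := by
      rw [hcard]
      ring
    exact Nat.eq_of_mul_eq_mul_left two_pos h2

/-- **The rotation of non-square spinor norm** -/
theorem exists_rot (hQ : Nondeg Q) (hD : Mult Q) {n : ℕ} (hn : 3 ≤ n) (hd : finrank F V = 2 * n) (hP : IsPlus Q)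
    {r : ℕ} [hr : Fact r.Prime] (hr2 : 2 < r) (hrF : ¬ r ∣ Nat.card F)
    (he : orderOf (Nat.card F : ZMod r) = 2 * (n - 1)) {T : V ≃ₗ[F] V} (hT : T ∈ O Q) (hTr : T ^ r = 1) (hT1 : T ≠ 1)
    {X : V ≃ₗ[F] V} (hX : X ∈ O Q) (hXev : ev X) (hc : ∀ v, X (T v) = T (X v)) {c : F} (hc0 : c ≠ 0) :
    ∃ (u u' : V) (hu : Q u ≠ 0) (hu' : Q u' ≠ 0), Q u = 1 ∧ Q u' = c ∧
      ∀ v, refl Q u hu (refl Q u' hu' (X v)) = X (refl Q u hu (refl Q u' hu' v)) := by
  obtain ⟨hnd, hdW, hdU, hnp, han, hirr⟩ := split hQ hn hd hP hr2 hrF he hT hTr hT1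
  obtain ⟨w, B, rfl, hw, hB, hBev, hdich, hcases⟩ := exists_wB hQ hD hn hd hT hnd hdW hdU hirr hX hXev hc
  have hR := nondeg_perp hQ hnd
  have hDU : Mult (res Q (perp Q (comS T))) := hD.prp hnd (by rw [hdW]; exact even_two_mul _)
  obtain ⟨u, hu⟩ := nondeg_of_aniso_ex hR hdU (1 : F) one_ne_zero
  obtain ⟨u', hu'⟩ := nondeg_of_aniso_ex hR hdU c hc0
  have hu0 : res Q (perp Q (comS T)) u ≠ 0 := by rw [hu]; exact one_ne_zero
  have hu0' : res Q (perp Q (comS T)) u' ≠ 0 := by rw [hu']; exact hc0
  refine ⟨u, u', hu0, hu0', hu, hu', ?_⟩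
  set β := refl (res Q (perp Q (comS T))) u hu0 * refl (res Q (perp Q (comS T))) u' hu0' with hβ
  have hβO : β ∈ O (res Q (perp Q (comS T))) := mul_mem (refl_mem_O hu0) (refl_mem_O hu0')
  have hev : Even (finrank F (perp Q (comS T))) := by rw [hdU]; exact even_two
  have hβe : ev β := by
    have h1 := not_ev_refl hR hev hu0
    have h2 := not_ev_refl hR hev hu0'
    have h3 := hDU _ (refl_mem_O hu0) _ (refl_mem_O hu0')
    rw [hβ]
    tauto
  have hcom := plane_comm hR hDU hdU han hB hBev hβO hβe
  -- the reflections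
  have hrefl : ∀ (x : perp Q (comS T)) (hx : res Q (perp Q (comS T)) x ≠ 0) (a : comS T) (b : perp Q (comS T)),
      refl Q (x : V) hx ((a : V) + (b : V)) =
        (a : V) + ((refl (res Q (perp Q (comS T))) x hx b : perp Q (comS T)) : V) := by
    intro x hx a b
    have h1 : polar Q (x : V) (a : V) = 0 := by rw [polar_comm]; exact x.2 a a.2
    have h2 := congrArg Subtype.val (refl_apply hx b)
    rw [h2]
    have h3 : Q (x : V) ≠ 0 := hx
    rw [refl_apply h3, polar_add_right, h1, zero_add, Submodule.coe_sub, Submodule.coe_smul, add_sub_assoc]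
    rfl
  intro v
  obtain ⟨a, b, rfl⟩ := exists_add_perp hnd v
  rw [glue_apply, hrefl u' hu0', hrefl u hu0, hrefl u' hu0', hrefl u hu0, glue_apply]
  congr 2
  exact hcom b

end main

end Cfsg.Agent.H286.CS
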