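import Cfsg.Agent.H286.CS.Om
import Cfsg.Agent.H286.CS.Spl
import Cfsg.Agent.LieClassical.OrthFinite

/-!
# From `isometryGroup F Q` (matrices) to linear isometries (helper286, for S3677)
-/

set_option autoImplicit false
set_option linter.unusedSectionVars false

namespace Cfsg.Agent.H286.CS

open Module QuadraticMap Matrix
open Cfsg.Agent.LieClassical.OrthCore Cfsg.Agent.H955
open Cfsg.Agent.ClassicalGeometry.Reflection Cfsg.Agent.ClassicalGeometry.SpinorSign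
open Cfsg.Agent.ClassicalGeometry.OrthDickson Cfsg.Agent.ClassicalGeometry.OmegaIndex

section brg

variable {ι : Type} [Fintype ι] [DecidableEq ι] {F : Type*} [Field F] (Q : QuadraticForm F (ι → F))

/-- the linear isometry given by a matrix -/
noncomputable def lin : Cfsg.isometryGroup F ⇑Q →* ((ι → F) ≃ₗ[F] (ι → F)) :=
  Cfsg.Agent.LieClassical.OrthFinite.isometryHom Q

theorem lin_apply (g : Cfsg.isometryGroup F ⇑Q) (v : ι → F) : lin Q g v = mt g *ᵥ v := rfl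

theorem lin_mem_O (g : Cfsg.isometryGroup F ⇑Q) : lin Q g ∈ O Q := by
  rw [← Cfsg.Agent.LieClassical.OrthFinite.isometryHom_range Q]
  exact ⟨g, rfl⟩

theorem exists_lin {Z : (ι → F) ≃ₗ[F] (ι → F)} (hZ : Z ∈ O Q) : ∃ g : Cfsg.isometryGroup F ⇑Q, lin Q g = Z := by
  rw [← Cfsg.Agent.LieClassical.OrthFinite.isometryHom_range Q] at hZ
  exact hZ

theorem lin_injective : Function.Injective (lin Q) := Cfsg.Agent.LieClassical.OrthFinite.isometryHom_injective Q

theorem mt_eq_iff {A B : Matrix ι ι F} : A = B ↔ ∀ v, A *ᵥ v = B *ᵥ v := by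
  constructor
  · rintro rfl v
    rfl
  · intro h
    apply Matrix.toLin'.injective
    apply LinearMap.ext
    intro v
    rw [Matrix.toLin'_apply, Matrix.toLin'_apply, h]

theorem ev_lin (hι : Even (Fintype.card ι)) (g : Cfsg.isometryGroup F ⇑Q) : ev (lin Q g) ↔ dsign Q g = 1 := by
  have h1 : fixS (lin Q g) = Cfsg.Agent.ClassicalGeometry.OrthCharTwo.fixSp g := by
    ext v
    rw [mem_fixS, Cfsg.Agent.ClassicalGeometry.OrthCharTwo.mem_fixSp]
    rfl
  rw [ev, h1, dsign_def, pow_add, hι.neg_one_pow, mul_one]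
  constructor
  · intro h
    exact h.neg_one_pow
  · intro h
    by_contra hcon
    rw [Nat.not_even_iff_odd] at hcon
    rw [hcon.neg_one_pow] at h
    exact absurd h (by decide)

theorem mult_lin (hQ : (polarBilin Q).Nondegenerate) (h : (∃ θ : F, θ ≠ 0 ∧ θ ≠ 1) ∨ Fintype.card ι ≠ 4)
    (hι : Even (Fintype.card ι)) : Mult Q := by
  intro g hg k hk
  obtain ⟨g, rfl⟩ := exists_lin Q hg
  obtain ⟨k, rfl⟩ := exists_lin Q hk
  rw [← map_mul, ev_lin Q hι, ev_lin Q hι, ev_lin Q hι, dsign_mul_of_gen Q hQ h]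
  rcases Int.units_eq_one_or (dsign Q g) with h1 | h1 <;> rcases Int.units_eq_one_or (dsign Q k) with h2 | h2 <;>
    rw [h1, h2] <;> decide

theorem mt_mul_eq_iff {g x : Cfsg.isometryGroup F ⇑Q} :
    mt g * mt x = mt x * mt g ↔ ∀ v, lin Q g (lin Q x v) = lin Q x (lin Q g v) := by
  rw [mt_eq_iff]
  refine forall_congr' fun v => ?_
  rw [← Matrix.mulVec_mulVec, ← Matrix.mulVec_mulVec]
  rfl

theorem mt_mul_neg_iff {g x : Cfsg.isometryGroup F ⇑Q} :
    mt g * mt x = - (mt x * mt g) ↔ ∀ v, lin Q g (lin Q x v) = - lin Q x (lin Q g v) := by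
  rw [mt_eq_iff]
  refine forall_congr' fun v => ?_
  rw [Matrix.neg_mulVec, ← Matrix.mulVec_mulVec, ← Matrix.mulVec_mulVec]
  rfl

variable {Q}

theorem card_KX_eq (hι : Even (Fintype.card ι)) (hQ : (polarBilin Q).Nondegenerate)
    (h : (∃ θ : F, θ ≠ 0 ∧ θ ≠ 1) ∨ Fintype.card ι ≠ 4) (x : Cfsg.isometryGroup F ⇑Q) :
    Nat.card (KX hQ h x) = Nat.card (KK Q (lin Q x)) := by
  have key : ∀ g : Cfsg.isometryGroup F ⇑Q, g ∈ KX hQ h x ↔ lin Q g ∈ KK Q (lin Q x) := by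
    intro g
    rw [mem_KX, comm_pm_iff, mt_mul_eq_iff, mt_mul_neg_iff]
    constructor
    · rintro ⟨h1, h2⟩
      exact ⟨lin_mem_O Q g, (ev_lin Q hι g).2 h1, h2⟩
    · rintro ⟨-, h1, h2⟩
      exact ⟨(ev_lin Q hι g).1 h1, h2⟩
  refine Nat.card_congr (Equiv.ofBijective (fun g => ⟨lin Q g.1, (key g.1).1 g.2⟩) ⟨?_, ?_⟩)
  · intro g g' hgg
    exact Subtype.ext (lin_injective Q (congrArg Subtype.val hgg))
  · rintro ⟨Z, hZ⟩
    obtain ⟨g, rfl⟩ := exists_lin Q hZ.1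
    exact ⟨⟨g, (key g).2 hZ⟩, rfl⟩

theorem lin_reflIso {v : ι → F} (hv : Q v ≠ 0) (w : ι → F) : lin Q (reflIso Q v hv) w = refl Q v hv w := by
  rw [refl_apply hv]
  exact Cfsg.Agent.ClassicalGeometry.OrthCharTwo.act_refl Q v hv w

/-- the element of spinor sign `-1` -/
theorem exists_b [Finite F] (h2 : (2 : F) ≠ 0) (hQ : (polarBilin Q).Nondegenerate)
    (h : (∃ θ : F, θ ≠ 0 ∧ θ ≠ 1) ∨ Fintype.card ι ≠ 4) {x : Cfsg.isometryGroup F ⇑Q}
    (H : ∀ c : F, c ≠ 0 → ∃ (u u' : ι → F) (hu : Q u ≠ 0) (hu' : Q u' ≠ 0), Q u = 1 ∧ Q u' = c ∧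
      ∀ v, refl Q u hu (refl Q u' hu' (lin Q x v)) = lin Q x (refl Q u hu (refl Q u' hu' v))) :
    ∃ b ∈ KX hQ h x, spinorSign ⇑Q 1 b = -1 := by
  classical
  obtain ⟨c, hc⟩ := FiniteField.exists_nonsquare (F := F) (by
    intro hch
    have := ringChar.of_eq hch
    apply h2
    exact_mod_cast CharP.cast_eq_zero F 2)
  have hc0 : c ≠ 0 := by
    rintro rfl
    exact hc ⟨0, by simp⟩
  obtain ⟨u, u', hu, hu', h1, h2', hcom⟩ := H c hc0
  refine ⟨reflIso Q u hu * reflIso Q u' hu', ?_, ?_⟩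
  · rw [mem_KX, comm_pm_iff]
    refine ⟨?_, Or.inl ?_⟩
    · rw [dsign_refl_mul Q hQ, dsign_refl Q hQ, neg_neg]
    · rw [mt_mul_eq_iff]
      intro v
      rw [map_mul, LinearEquiv.mul_apply, LinearEquiv.mul_apply, lin_reflIso, lin_reflIso, lin_reflIso, lin_reflIso]
      exact hcom v
  · rw [map_mul, spinorSign_reflIso h2 Q one_ne_zero u hu, spinorSign_reflIso h2 Q one_ne_zero u' hu', h1, h2', mul_one,
      one_mul, if_pos (IsSquare.one), if_neg hc, mul_one]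

end brg

end Cfsg.Agent.H286.CS
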