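import Cfsg.Agent.H286.CS.Plane

/-!
# The isometries commuting up to sign with `X = (w, B)` on `V = W ⊥ U`, `U` an anisotropic plane (helper286, for S3677)
-/

set_option autoImplicit false
set_option linter.unusedSectionVars false

namespace Cfsg.Agent.H286.CS

open Module QuadraticMap Polynomial
open Cfsg.Agent.LieClassical.OrthCore Cfsg.Agent.H955

universe u v

section general

variable {F : Type u} [Field F] {V : Type v} [AddCommGroup V] [Module F V] [FiniteDimensional F V]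
  {Q : QuadraticForm F V}

/-- the even isometries commuting with `X` up to sign -/
def KK (Q : QuadraticForm F V) (X : V ≃ₗ[F] V) : Set (V ≃ₗ[F] V) :=
  {g | g ∈ O Q ∧ ev g ∧ ((∀ v, g (X v) = X (g v)) ∨ ∀ v, g (X v) = - X (g v))}

theorem exists_glue {W : Submodule F V} (h : Nondeg (res Q W)) {g : V ≃ₗ[F] V} (hg : g ∈ O Q)
    (hW : ∀ a ∈ W, g a ∈ W) : ∃ g₁ g₂, g = glue h (g₁, g₂) := by
  refine ⟨resT g W hW, resT g (perp Q W) (inv_perp hg hW), ?_⟩
  apply LinearEquiv.ext
  intro v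
  obtain ⟨a, b, rfl⟩ := exists_add_perp h v
  rw [glue_apply, map_add]
  rfl

theorem glue_eq_iff {W : Submodule F V} (h : Nondeg (res Q W)) {a a' : W} {b b' : perp Q W} :
    (a : V) + (b : V) = (a' : V) + (b' : V) ↔ a = a' ∧ b = b' := by
  constructor
  · intro hab
    have h2 := (decomp h).injective (show decomp h (a, b) = decomp h (a', b') from hab)
    exact ⟨congrArg Prod.fst h2, congrArg Prod.snd h2⟩
  · rintro ⟨rfl, rfl⟩
    rfl

theorem mem_iff_right {W : Submodule F V} (h : Nondeg (res Q W)) {a : W} {b : perp Q W} :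
    (a : V) + (b : V) ∈ W ↔ b = 0 := by
  constructor
  · intro hm
    have h1 : (a : V) + (b : V) = ((⟨(a : V) + (b : V), hm⟩ : W) : V) + ((0 : perp Q W) : V) := by simp
    exact ((glue_eq_iff h).1 h1).2
  · rintro rfl
    simp

theorem glue_comm {W : Submodule F V} (h : Nondeg (res Q W)) {g₁ w : W ≃ₗ[F] W} {g₂ B : perp Q W ≃ₗ[F] perp Q W} :
    (∀ v, glue h (g₁, g₂) (glue h (w, B) v) = glue h (w, B) (glue h (g₁, g₂) v)) ↔
      (∀ a, g₁ (w a) = w (g₁ a)) ∧ ∀ b, g₂ (B b) = B (g₂ b) := by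
  constructor
  · intro hc
    have key : ∀ (a : W) (b : perp Q W), g₁ (w a) = w (g₁ a) ∧ g₂ (B b) = B (g₂ b) := by
      intro a b
      have h1 := hc ((a : V) + (b : V))
      rw [glue_apply, glue_apply, glue_apply, glue_apply] at h1
      exact (glue_eq_iff h).1 h1
    exact ⟨fun a => (key a 0).1, fun b => (key 0 b).2⟩
  · rintro ⟨h1, h2⟩ v
    obtain ⟨a, b, rfl⟩ := exists_add_perp h v
    rw [glue_apply, glue_apply, glue_apply, glue_apply]
    change (g₁ (w a) : V) + (g₂ (B b) : V) = (w (g₁ a) : V) + (B (g₂ b) : V)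
    rw [h1, h2]

theorem ev_glue {W : Submodule F V} (h : Nondeg (res Q W)) {g₁ : W ≃ₗ[F] W} {g₂ : perp Q W ≃ₗ[F] perp Q W} :
    ev (glue h (g₁, g₂)) ↔ (ev g₁ ↔ ev g₂) := by
  rw [ev, finrank_fixS_glue, Nat.even_add]
  rfl

theorem Mult.lft (hD : Mult Q) {W : Submodule F V} (h : Nondeg (res Q W)) (hU : Even (finrank F (perp Q W))) :
    Mult (res Q W) := by
  have key : ∀ b : W ≃ₗ[F] W, ev (glue h (b, 1)) ↔ ev b := by
    intro b
    rw [ev_glue]
    have := ev_one (F := F) (V := perp Q W) hU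
    tauto
  intro g hg k hk
  rw [← key, ← key, ← key]
  have h1 : glue h ((g * k, 1) : (W ≃ₗ[F] W) × (perp Q W ≃ₗ[F] perp Q W)) = glue h (g, 1) * glue h (k, 1) := by
    rw [← map_mul]
    congr 1
  rw [h1]
  exact hD _ ((glue_mem_O h).2 ⟨hg, one_mem _⟩) _ ((glue_mem_O h).2 ⟨hk, one_mem _⟩)

/-- a big subspace meets its images -/
theorem exists_meet {W : Submodule F V} (hlt : finrank F V < 2 * finrank F W) (g : V ≃ₗ[F] V) :
    ∃ a ∈ W, a ≠ 0 ∧ g a ∈ W := by
  by_contra hcon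
  push Not at hcon
  have h1 : Disjoint (W.map (g : V →ₗ[F] V)) W := by
    rw [Submodule.disjoint_def]
    rintro x ⟨a, ha, rfl⟩ hx
    by_contra hne
    exact hcon a ha (fun h => hne (by rw [h, map_zero])) hx
  have h2 := Submodule.finrank_add_finrank_le_of_disjoint h1
  rw [LinearEquiv.finrank_map_eq] at h2
  omega

theorem neg_eq_self (h2 : (2 : F) = 0) (v : V) : -v = v := by
  have h3 : (2 : F) • v = 0 := by rw [h2, zero_smul]
  rw [two_smul] at h3
  exact neg_eq_of_add_eq_zero_left h3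

end general

section main

variable {F : Type u} [Field F] [Finite F] {V : Type v} [AddCommGroup V] [Module F V] [FiniteDimensional F V]
  {Q : QuadraticForm F V}

/-! ### `w = ± 1` -/

/-- Case I -/
theorem case_one (hQ : Nondeg Q) (hD : Mult Q) {n : ℕ} (hn : 3 ≤ n) (hd : finrank F V = 2 * n) {W : Submodule F V}
    (hnd : Nondeg (res Q W)) (hdW : finrank F W = 2 * (n - 1)) (hdU : finrank F (perp Q W) = 2)
    (han : ∀ u : perp Q W, res Q (perp Q W) u = 0 → u = 0) {w : W ≃ₗ[F] W} {B : perp Q W ≃ₗ[F] perp Q W}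
    (hB : B ∈ O (res Q (perp Q W))) (hBev : ev B) {e : F} (he : e = 1 ∨ e = -1) (hwe : ∀ a, w a = e • a)
    (hne : ∃ u, B u ≠ e • u) :
    ∃ a, (a = 1 ∨ (a = 2 ∧ (2 : F) ≠ 0)) ∧
      2 * Nat.card (KK Q (glue hnd (w, B))) = Nat.card (O (res Q W)) * ((Nat.card F + 1) * a) := by
  classical
  have hfin : Finite V := Module.finite_of_finite F
  have hR := nondeg_perp hQ hnd
  have hDU : Mult (res Q (perp Q W)) := hD.prp hnd (by rw [hdW]; exact even_two_mul _)
  have hDW : Mult (res Q W) := hD.lft hnd (by rw [hdU]; exact even_two)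
  have he0 : e ≠ 0 := by rcases he with rfl | rfl <;> simp
  -- no eigenvalue `e`
  have hnoe : ∀ u, B u = e • u → u = 0 := by
    intro u hu
    by_contra hu0
    obtain ⟨x, hx⟩ := hne
    rcases he with rfl | rfl
    · rw [one_smul] at hu
      rw [eq_one_of_ev hdU hBev hu0 hu, one_smul] at hx
      exact hx rfl
    · rw [neg_one_smul] at hu hx
      exact hx (eq_neg_of_ev hDU hdU hB hBev hu0 hu x)
  set X := glue hnd (w, B) with hX
  have hXa : ∀ (a : W) (b : perp Q W), X ((a : V) + (b : V)) = ((e • a : W) : V) + (B b : V) := by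
    intro a b
    rw [hX, glue_apply]
    change (w a : V) + _ = _
    rw [hwe]
  have hXW : ∀ a : W, X (a : V) = e • (a : V) := by
    intro a
    have := hXa a 0
    simpa using this
  have hker : ∀ v : V, X v = e • v → v ∈ W := by
    intro v hv
    obtain ⟨a, b, rfl⟩ := exists_add_perp hnd v
    rw [hXa, smul_add] at hv
    have h1 := ((glue_eq_iff hnd (a' := e • a) (b' := e • b)).1 hv).2
    exact (mem_iff_right hnd).2 (hnoe b h1)
  -- all elements commute
  have hcomm : ∀ g ∈ KK Q X, ∀ v, g (X v) = X (g v) := by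
    rintro g ⟨hg1, hg2, hg3⟩
    rcases hg3 with hg3 | hg3
    · exact hg3
    · by_cases h2 : (2 : F) = 0
      · intro v
        rw [hg3, neg_eq_self h2]
      · exfalso
        obtain ⟨a, ha, ha0, hga⟩ := exists_meet (W := W) (by rw [hd, hdW]; omega) g
        have h3 : g (X a) = e • g a := by rw [hXW ⟨a, ha⟩, map_smul]
        have h4 : X (g a) = e • g a := hXW ⟨g a, hga⟩
        have h5 := hg3 a
        rw [h3, h4] at h5
        have h6 : e • g a ≠ 0 := smul_ne_zero he0 (fun h => ha0 (g.map_eq_zero_iff.1 h))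
        exact neg_ne_of_ne h2 h6 h5
  -- the group
  let C : Subgroup (perp Q W ≃ₗ[F] perp Q W) :=
    { carrier := {g | g ∈ O (res Q (perp Q W)) ∧ ∀ u, g (B u) = B (g u)}
      mul_mem' := by
        rintro a b ⟨ha1, ha2⟩ ⟨hb1, hb2⟩
        refine ⟨mul_mem ha1 hb1, fun u => ?_⟩
        change a (b (B u)) = B (a (b u))
        rw [hb2, ha2]
      one_mem' := ⟨one_mem _, fun u => rfl⟩
      inv_mem' := by
        rintro a ⟨ha1, ha2⟩
        refine ⟨inv_mem ha1, fun u => ?_⟩
        change a.symm (B u) = B (a.symm u)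
        rw [LinearEquiv.symm_apply_eq, ha2, LinearEquiv.apply_symm_apply] }
  have hfinU : Finite (perp Q W ≃ₗ[F] perp Q W) :=
    Finite.of_injective (fun g : perp Q W ≃ₗ[F] perp Q W => (g : perp Q W → perp Q W)) DFunLike.coe_injective
  have hfinW : Finite (W ≃ₗ[F] W) :=
    Finite.of_injective (fun g : W ≃ₗ[F] W => (g : W → W)) DFunLike.coe_injective
  -- the half
  obtain ⟨y, hy⟩ := exists_eq_one hnd (m := n - 1) (by omega) hdW
  have hy' : res Q W y ≠ 0 := by rw [hy]; exact one_ne_zero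
  have hhalf := card_half (G := O (res Q W) × C) (fun g => ev g.1.1 ↔ ev g.2.1) (by
    rintro ⟨g1, g2⟩ ⟨h1, h2⟩
    change (ev (g1.1 * h1.1) ↔ ev (g2.1 * h2.1)) ↔ _
    rw [hDW _ g1.2 _ h1.2, hDU _ g2.2.1 _ h2.2.1]
    dsimp only
    tauto) ⟨(⟨refl (res Q W) y hy', refl_mem_O hy'⟩, 1), by
      have h1 := not_ev_refl hnd (by rw [hdW]; exact even_two_mul _) hy'
      have h2 := ev_one (F := F) (V := perp Q W) (by rw [hdU]; exact even_two)
      change ¬ (ev (refl (res Q W) y hy') ↔ ev (1 : perp Q W ≃ₗ[F] perp Q W))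
      tauto⟩
  have hKK : Nat.card {g : O (res Q W) × C // ev g.1.1 ↔ ev g.2.1} = Nat.card (KK Q X) := by
    let φ : {g : O (res Q W) × C // ev g.1.1 ↔ ev g.2.1} → KK Q X := fun g =>
      ⟨glue hnd (g.1.1.1, g.1.2.1), (glue_mem_O hnd).2 ⟨g.1.1.2, g.1.2.2.1⟩, (ev_glue hnd).2 g.2, Or.inl (by
        rw [hX]
        exact (glue_comm hnd).2 ⟨fun a => by rw [hwe, hwe, map_smul], g.1.2.2.2⟩)⟩
    apply Nat.card_eq_of_bijective φ
    constructor
    · rintro ⟨⟨⟨g1, hg1⟩, ⟨g2, hg2⟩⟩, hg⟩ ⟨⟨⟨h1, hh1⟩, ⟨h2, hh2⟩⟩, hh⟩ hgh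
      have h3 := glue_injective hnd (congrArg Subtype.val hgh)
      have e1 : g1 = h1 := congrArg Prod.fst h3
      have e2 : g2 = h2 := congrArg Prod.snd h3
      subst e1 e2
      rfl
    · rintro ⟨g, hg⟩
      have hc := hcomm g hg
      obtain ⟨g₁, g₂, rfl⟩ := exists_glue hnd hg.1 (by
        intro a ha
        apply hker
        rw [← hc, hXW ⟨a, ha⟩, map_smul])
      have hO := (glue_mem_O hnd).1 hg.1
      rw [hX] at hc
      exact ⟨⟨(⟨g₁, hO.1⟩, ⟨g₂, hO.2, ((glue_comm hnd).1 hc).2⟩), (ev_glue hnd).1 hg.2.1⟩, rfl⟩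
  rw [hKK, Nat.card_prod] at hhalf
  rw [← hhalf]
  -- the order of `C`
  by_cases h1 : B = 1
  · -- `e = - 1`
    refine ⟨2, Or.inr ⟨rfl, ?_⟩, ?_⟩
    · intro h2
      obtain ⟨u, hu⟩ := hne
      apply hu
      rw [h1]
      rcases he with rfl | rfl
      · rw [one_smul]; rfl
      · rw [neg_one_smul, neg_eq_self h2]; rfl
    · congr 1
      have h2 : Nat.card C = Nat.card (O (res Q (perp Q W))) := by
        refine Nat.card_congr (Equiv.subtypeEquivRight fun g => ⟨fun h => h.1, fun h => ⟨h, fun u => ?_⟩⟩)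
        rw [h1]; rfl
      rw [h2, card_O_plane hR hdU han]
      ring
  by_cases h2 : ∃ v, B v ≠ -v
  · refine ⟨1, Or.inl rfl, ?_⟩
    have hno : ∀ u, u ≠ 0 → ∀ c : F, B u ≠ c • u := fun u hu c => no_eigen hDU hdU han hB hBev h1 h2 hu c
    rw [mul_one, ← (plane_minpoly hR hdU hB hno).2.2]
    rfl
  · push Not at h2
    refine ⟨2, Or.inr ⟨rfl, ?_⟩, ?_⟩
    · intro h3
      apply h1
      apply LinearEquiv.ext
      intro v
      rw [h2, neg_eq_self h3]
      rfl
    · congr 1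
      have h3 : Nat.card C = Nat.card (O (res Q (perp Q W))) := by
        refine Nat.card_congr (Equiv.subtypeEquivRight fun g => ⟨fun h => h.1, fun h => ⟨h, fun u => ?_⟩⟩)
        rw [h2, h2, map_neg]
      rw [h3, card_O_plane hR hdU han]
      ring

end main

end Cfsg.Agent.H286.CS
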