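import Cfsg.Agent.H286.CS.Count

/-!
# The isometries commuting up to sign with `X = (w, B)` on `V = W ⊥ U`, II: `w ^ 2 ≠ 1` (helper286, for S3677)
-/

set_option autoImplicit false
set_option linter.unusedSectionVars false

namespace Cfsg.Agent.H286.CS

open Module QuadraticMap Polynomial
open Cfsg.Agent.LieClassical.OrthCore Cfsg.Agent.H955

universe u v

/-- `|GU_m(q)|` -/
def GU (m q : ℕ) : ℕ :=
  q ^ (m * (m - 1) / 2) * ∏ i ∈ Finset.range m, (if Even i then q ^ (i + 1) + 1 else q ^ (i + 1) - 1)

section general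

variable {F : Type u} [Field F] {V : Type v} [AddCommGroup V] [Module F V] [FiniteDimensional F V]
  {Q : QuadraticForm F V}

theorem glue_anti {W : Submodule F V} (h : Nondeg (res Q W)) {g₁ w : W ≃ₗ[F] W} {g₂ B : perp Q W ≃ₗ[F] perp Q W}
    (hc : ∀ v, glue h (g₁, g₂) (glue h (w, B) v) = - glue h (w, B) (glue h (g₁, g₂) v)) :
      (∀ a, g₁ (w a) = - w (g₁ a)) ∧ ∀ b, g₂ (B b) = - B (g₂ b) := by
  have key : ∀ (a : W) (b : perp Q W), g₁ (w a) = - w (g₁ a) ∧ g₂ (B b) = - B (g₂ b) := by
    intro a b
    have h1 := hc ((a : V) + (b : V))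
    rw [glue_apply, glue_apply, glue_apply, glue_apply, neg_add] at h1
    exact (glue_eq_iff h (a' := - w (g₁ a)) (b' := - B (g₂ b))).1 h1
  exact ⟨fun a => (key a 0).1, fun b => (key 0 b).2⟩

theorem aeval_glue {W : Submodule F V} (h : Nondeg (res Q W)) (w : W ≃ₗ[F] W) (B : perp Q W ≃ₗ[F] perp Q W)
    (P : F[X]) (a : W) (b : perp Q W) : aeval (glue h (w, B) : Module.End F V) P ((a : V) + (b : V)) =
      ((aeval (w : Module.End F W) P a : W) : V) + ((aeval (B : Module.End F (perp Q W)) P b : perp Q W) : V) := by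
  have hpow : ∀ (i : ℕ) (a : W) (b : perp Q W), ((glue h (w, B) : Module.End F V) ^ i) ((a : V) + (b : V)) =
      ((((w : Module.End F W) ^ i) a : W) : V) + ((((B : Module.End F (perp Q W)) ^ i) b : perp Q W) : V) := by
    intro i
    induction i with
    | zero => intro a b; rfl
    | succ i ih =>
      intro a b
      rw [pow_succ, Module.End.mul_apply]
      have h1 : (glue h (w, B) : Module.End F V) ((a : V) + (b : V)) = (w a : V) + (B b : V) := glue_apply h _ a b
      rw [h1, ih]
      rfl
  induction P using Polynomial.induction_on' with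
  | add p q hp hq =>
    have e1 : aeval (glue h (w, B) : Module.End F V) (p + q) =
      aeval (glue h (w, B) : Module.End F V) p + aeval (glue h (w, B) : Module.End F V) q := map_add _ _ _
    have e2 : aeval (w : Module.End F W) (p + q) = aeval (w : Module.End F W) p + aeval (w : Module.End F W) q :=
      map_add _ _ _
    have e3 : aeval (B : Module.End F (perp Q W)) (p + q) =
      aeval (B : Module.End F (perp Q W)) p + aeval (B : Module.End F (perp Q W)) q := map_add _ _ _
    rw [e1, e2, e3, LinearMap.add_apply, hp, hq, LinearMap.add_apply, LinearMap.add_apply,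
      Submodule.coe_add, Submodule.coe_add]
    abel
  | monomial i c =>
    rw [aeval_monomial, Module.End.mul_apply, Module.algebraMap_end_apply, hpow, aeval_monomial, aeval_monomial,
      Module.End.mul_apply, Module.End.mul_apply, Module.algebraMap_end_apply, Module.algebraMap_end_apply, smul_add]
    rfl

theorem eval_ne_zero {f : F[X]} (hf : Irreducible f) (hdeg : 2 ≤ f.natDegree) (c : F) : f.eval c ≠ 0 := by
  intro h
  have h1 := degree_eq_one_of_irreducible_of_root hf h
  have h2 : f.natDegree = 1 := natDegree_eq_of_degree_eq_some h1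
  omega

theorem aeval_of_scalar {U : Type*} [AddCommGroup U] [Module F U] {B : Module.End F U} {c : F}
    (hB : ∀ u, B u = c • u) (f : F[X]) (u : U) : aeval B f u = f.eval c • u := by
  have h1 : B = algebraMap F (Module.End F U) c := by
    apply LinearMap.ext
    intro v
    rw [hB, Module.algebraMap_end_apply]
  rw [h1, aeval_algebraMap_apply, Module.algebraMap_end_apply]
  rfl

end general

section main

variable {F : Type u} [Field F] [Finite F] {V : Type v} [AddCommGroup V] [Module F V] [FiniteDimensional F V]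
  {Q : QuadraticForm F V}

/-- Case III -/
theorem case_three (hQ : Nondeg Q) (hD : Mult Q) {n : ℕ} (hn : 3 ≤ n) (hd : finrank F V = 2 * n) {W : Submodule F V}
    (hnd : Nondeg (res Q W)) (hdW : finrank F W = 2 * (n - 1)) (hdU : finrank F (perp Q W) = 2)
    (han : ∀ u : perp Q W, res Q (perp Q W) u = 0 → u = 0) {w : W ≃ₗ[F] W} {B : perp Q W ≃ₗ[F] perp Q W}
    (hw : w ∈ O (res Q W)) (hB : B ∈ O (res Q (perp Q W))) (hBev : ev B)
    (hdich : ∀ P : F[X], aeval (w : Module.End F W) P = 0 ∨ Function.Injective (aeval (w : Module.End F W) P))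
    (hw2 : ∃ v, w (w v) ≠ v)
    (hBi : Function.Injective (aeval (B : Module.End F (perp Q W)) (minpoly F (w : Module.End F W)))) :
    ∃ k m, 0 < k ∧ 0 < m ∧ k * m = n - 1 ∧ (minpoly F (w : Module.End F W)).natDegree = 2 * k ∧
      Nat.card (KK Q (glue hnd (w, B))) = GU m (Nat.card F ^ k) * (Nat.card F + 1) := by
  classical
  have hR := nondeg_perp hQ hnd
  have hDU : Mult (res Q (perp Q W)) := hD.prp hnd (by rw [hdW]; exact even_two_mul _)
  have hntW : Nontrivial W := Module.nontrivial_of_finrank_pos (R := F) (by omega)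
  have hntU : Nontrivial (perp Q W) := Module.nontrivial_of_finrank_pos (R := F) (by omega)
  have hirr := irr_minpoly hdich
  obtain ⟨k, m, hk, hm, hkm, hdeg, hcard⟩ := Cfsg.Agent.H510.CS.card_cent (frm_polar (res Q W)) (nd_polar hnd)
    (Or.inl rfl) (fun u v => polar_map hw u v) hirr hw2
  rw [hdW, mul_assoc] at hkm
  have hkm' : k * m = n - 1 := by omega
  refine ⟨k, m, hk, hm, hkm', hdeg, ?_⟩
  set f := minpoly F (w : Module.End F W) with hf
  set X := glue hnd (w, B) with hX
  -- no fixed vectors
  have hfree : ∀ a, w a = a → a = 0 := by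
    intro a ha
    by_contra ha0
    rcases hdich (Polynomial.X - C 1) with h | h
    · obtain ⟨v, hv⟩ := hw2
      have h1 : ∀ v, w v = v := by
        intro v
        have h2 := LinearMap.congr_fun h v
        rw [map_sub, aeval_X, aeval_C, map_one, LinearMap.sub_apply, Module.End.one_apply, LinearMap.zero_apply,
          sub_eq_zero] at h2
        exact h2
      exact hv (by rw [h1, h1])
    · apply ha0
      apply h
      rw [map_zero, map_sub, aeval_X, aeval_C, map_one, LinearMap.sub_apply, Module.End.one_apply, sub_eq_zero]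
      exact ha
  have hker : ∀ v : V, aeval (X : Module.End F V) f v = 0 → v ∈ W := by
    intro v hv
    obtain ⟨a, b, rfl⟩ := exists_add_perp hnd v
    rw [hX, aeval_glue] at hv
    have h1 := ((glue_eq_iff hnd (a' := 0) (b' := 0)).1 (by rw [hv]; simp)).2
    exact (mem_iff_right hnd).2 (hBi (by rw [h1, map_zero]))
  have hfW : ∀ a ∈ W, aeval (X : Module.End F V) f a = 0 := by
    intro a ha
    have h1 := aeval_glue hnd w B f ⟨a, ha⟩ 0
    rw [hf, minpoly.aeval, map_zero] at h1
    simpa using h1
  -- all elements commute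
  have hcomm : ∀ g ∈ KK Q X, ∀ v, g (X v) = X (g v) := by
    rintro g ⟨hg1, hg2, hg3⟩
    rcases hg3 with hg3 | hg3
    · exact hg3
    · by_cases h2 : (2 : F) = 0
      · intro v
        rw [hg3, neg_eq_self h2]
      · exfalso
        have hanti := fun (P : F[X]) (v : V) => anti_aeval (A := (X : Module.End F V)) (T := (g : Module.End F V))
          (fun v => hg3 v) P v
        have hz : ∀ a ∈ W, aeval (X : Module.End F V) (f.comp (-Polynomial.X)) (g a) = 0 := by
          intro a ha
          have h3 := hanti f a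
          rw [hfW a ha, map_zero] at h3
          exact h3.symm
        obtain ⟨a, ha, ha0, hga⟩ := exists_meet (W := W) (by rw [hd, hdW]; omega) g
        have hfm : aeval (w : Module.End F W) (f.comp (-Polynomial.X)) = 0 := by
          rcases hdich (f.comp (-Polynomial.X)) with h | h
          · exact h
          · exfalso
            have h3 := hz a ha
            have h4 := aeval_glue hnd w B (f.comp (-Polynomial.X)) ⟨g a, hga⟩ 0
            rw [map_zero, ← hX] at h4
            have h5 : aeval (w : Module.End F W) (f.comp (-Polynomial.X)) ⟨g a, hga⟩ = 0 := by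
              apply Subtype.ext
              have h6 : aeval (X : Module.End F V) (f.comp (-Polynomial.X)) (g a + 0) = _ := h4
              rw [add_zero, h3] at h6
              simpa using h6.symm
            have h6 : (⟨g a, hga⟩ : W) = 0 := h (by rw [h5, map_zero])
            exact ha0 (g.map_eq_zero_iff.1 (congrArg Subtype.val h6))
        obtain ⟨c, hc⟩ := minpoly.dvd F _ hfm
        rw [← hf] at hc
        have hf0 : f ≠ 0 := hirr.ne_zero
        have hcomp0 : f.comp (-Polynomial.X) ≠ 0 := by
          intro h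
          have h3 : (f.comp (-Polynomial.X)).comp (-Polynomial.X) = f := by
            rw [comp_assoc]
            simp
          rw [h, zero_comp] at h3
          exact hf0 h3.symm
        have hc0 : c ≠ 0 := by rintro rfl; rw [mul_zero] at hc; exact hcomp0 hc
        have hcd : c.natDegree = 0 := by
          have h3 := congrArg natDegree hc
          rw [natDegree_mul hf0 hc0, natDegree_comp, natDegree_neg, natDegree_X, mul_one] at h3
          omega
        rw [natDegree_eq_zero] at hcd
        obtain ⟨c0, rfl⟩ := hcd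
        have hc00 : c0 ≠ 0 := by rintro rfl; exact hc0 C_0
        obtain ⟨g₁, g₂, rfl⟩ := exists_glue hnd hg1 (by
          intro a ha
          apply hker
          have h3 := hz a ha
          rw [hc, mul_comm, map_mul, aeval_C, Module.End.mul_apply, Module.algebraMap_end_apply] at h3
          exact (smul_eq_zero.1 h3).resolve_left hc00)
        obtain ⟨ha1, ha2⟩ := glue_anti hnd hg3
        have hO := (glue_mem_O hnd).1 hg1
        obtain ⟨hsq, hdeg2⟩ := Cfsg.Agent.H510.CS.sq_of_neg (frm_polar (res Q W)) (nd_polar hnd)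
          (fun u v => polar_map hw u v) hirr hw2 h2 ha1
        obtain ⟨u, hu⟩ := exists_ne (0 : perp Q W)
        have hgu : g₂ u ≠ 0 := fun h => hu (g₂.map_eq_zero_iff.1 h)
        have hB1 : B ≠ 1 := by
          intro h
          have h3 := ha2 u
          rw [h] at h3
          exact neg_ne_of_ne h2 hgu h3
        have hB2 : ∃ v, B v ≠ -v := by
          refine ⟨u, fun h => ?_⟩
          have h3 : ∀ v, B v = -v := eq_neg_of_ev hDU hdU hB hBev hu h
          have h4 := ha2 u
          rw [h3, h3, map_neg, neg_neg] at h4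
          exact neg_ne_of_ne h2 hgu h4.symm
        have hno : ∀ u, u ≠ 0 → ∀ c : F, B u ≠ c • u := fun u hu c => no_eigen hDU hdU han hB hBev hB1 hB2 hu c
        obtain ⟨hsqB, -⟩ := Cfsg.Agent.H510.CS.sq_of_neg (frm_polar (res Q (perp Q W))) (nd_polar hR)
          (fun u v => polar_map hB u v) (plane_minpoly hR hdU hB hno).1 (sq_ne_one hdU hno) h2 ha2
        -- `f = X ^ 2 + 1`
        have hmon : (Polynomial.X ^ 2 + C 1 : F[X]).Monic := monic_X_pow_add_C 1 two_ne_zero
        have hfX : (Polynomial.X ^ 2 + C 1 : F[X]) = f := by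
          apply eq_of_monic_of_dvd_of_natDegree_le (minpoly.monic (Algebra.IsIntegral.isIntegral _)) hmon
          · apply minpoly.dvd
            apply LinearMap.ext
            intro v
            rw [map_add, map_pow, aeval_X, aeval_C, map_one, LinearMap.add_apply, pow_two, Module.End.mul_apply,
              Module.End.one_apply, LinearMap.zero_apply]
            change w (w v) + v = 0
            rw [hsq, neg_add_cancel]
          · rw [natDegree_X_pow_add_C, ← hf, hdeg]
            omega
        apply hu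
        apply hBi
        rw [map_zero, ← hfX, map_add, map_pow, aeval_X, aeval_C, map_one, LinearMap.add_apply, pow_two,
          Module.End.mul_apply, Module.End.one_apply]
        change B (B u) + u = 0
        rw [hsqB, neg_add_cancel]
  -- the count
  rw [GU, ← hcard, ← card_SO_plane hR hDU hdU han, ← Nat.card_prod]
  symm
  let φ : {g : W ≃ₗ[F] W // (∀ u v, polar (res Q W) (g u) (g v) = polar (res Q W) u v) ∧ ∀ v, g (w v) = w (g v)} ×
      {g : perp Q W ≃ₗ[F] perp Q W // g ∈ O (res Q (perp Q W)) ∧ ev g} → KK Q X := fun g =>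
    ⟨glue hnd (g.1.1, g.2.1), (glue_mem_O hnd).2 ⟨mem_O_of_comm hw hfree g.1.2.1 g.1.2.2, g.2.2.1⟩, (ev_glue hnd).2 (by
      have h1 : ev g.1.1 := by
        have h3 := dvd_finrank hirr (fixS g.1.1) (fun v hv => by
          rw [mem_fixS] at hv ⊢
          change g.1.1 (w v) = w v
          rw [g.1.2.2, hv])
        rw [← hf, hdeg] at h3
        exact even_iff_two_dvd.2 ((Dvd.intro _ rfl).trans h3)
      have h2 := g.2.2.2
      tauto), Or.inl (by
      rw [hX]
      exact (glue_comm hnd).2 ⟨g.1.2.2, fun b => plane_comm hR hDU hdU han hB hBev g.2.2.1 g.2.2.2 b⟩)⟩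
  apply Nat.card_eq_of_bijective φ
  constructor
  · rintro ⟨⟨g1, hg1⟩, ⟨g2, hg2⟩⟩ ⟨⟨h1, hh1⟩, ⟨h2, hh2⟩⟩ hgh
    have h3 := glue_injective hnd (congrArg Subtype.val hgh)
    have e1 : g1 = h1 := congrArg Prod.fst h3
    have e2 : g2 = h2 := congrArg Prod.snd h3
    subst e1 e2
    rfl
  · rintro ⟨g, hg⟩
    have hc := hcomm g hg
    obtain ⟨g₁, g₂, rfl⟩ := exists_glue hnd hg.1 (by
      intro a ha
      apply hker
      have h1 := comm_aeval (A := (X : Module.End F V)) (T := (g : Module.End F V)) (fun v => hc v) f a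
      rw [hfW a ha, map_zero] at h1
      exact h1.symm)
    have hO := (glue_mem_O hnd).1 hg.1
    rw [hX] at hc
    obtain ⟨hc1, hc2⟩ := (glue_comm hnd).1 hc
    have h1 : ev g₁ := by
      have h3 := dvd_finrank hirr (fixS g₁) (fun v hv => by
        rw [mem_fixS] at hv ⊢
        change g₁ (w v) = w v
        rw [hc1, hv])
      rw [← hf, hdeg] at h3
      exact even_iff_two_dvd.2 ((Dvd.intro _ rfl).trans h3)
    have h2 := (ev_glue hnd).1 hg.2.1
    exact ⟨(⟨g₁, fun u v => polar_map hO.1 u v, hc1⟩, ⟨g₂, hO.2, by tauto⟩), rfl⟩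

/-- Case II -/
theorem case_two (hQ : Nondeg Q) (hD : Mult Q) {n : ℕ} (hn : 3 ≤ n) (hd : finrank F V = 2 * n) {W : Submodule F V}
    (hnd : Nondeg (res Q W)) (hdW : finrank F W = 2 * (n - 1)) (hdU : finrank F (perp Q W) = 2)
    (han : ∀ u : perp Q W, res Q (perp Q W) u = 0 → u = 0) {w : W ≃ₗ[F] W} {B : perp Q W ≃ₗ[F] perp Q W}
    (hw : w ∈ O (res Q W)) (hB : B ∈ O (res Q (perp Q W))) (hBev : ev B)
    (hdich : ∀ P : F[X], aeval (w : Module.End F W) P = 0 ∨ Function.Injective (aeval (w : Module.End F W) P))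
    (hw2 : ∃ v, w (w v) ≠ v)
    (hBi : ¬ Function.Injective (aeval (B : Module.End F (perp Q W)) (minpoly F (w : Module.End F W)))) :
    ∃ a, (a = 1 ∨ (a = 2 ∧ (2 : F) ≠ 0 ∧ ¬ IsSquare (-1 : F))) ∧
      Nat.card (KK Q (glue hnd (w, B))) = a * GU n (Nat.card F) := by
  classical
  have hR := nondeg_perp hQ hnd
  have hDU : Mult (res Q (perp Q W)) := hD.prp hnd (by rw [hdW]; exact even_two_mul _)
  have hntW : Nontrivial W := Module.nontrivial_of_finrank_pos (R := F) (by omega)
  have hntV : Nontrivial V := Module.nontrivial_of_finrank_pos (R := F) (by omega)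
  have hntU : Nontrivial (perp Q W) := Module.nontrivial_of_finrank_pos (R := F) (by omega)
  have hirr := irr_minpoly hdich
  obtain ⟨k, m, hk, hm, hkm, hdeg, -⟩ := Cfsg.Agent.H510.CS.card_cent (frm_polar (res Q W)) (nd_polar hnd)
    (Or.inl rfl) (fun u v => polar_map hw u v) hirr hw2
  set f := minpoly F (w : Module.End F W) with hf
  set X := glue hnd (w, B) with hX
  have hfm : f.Monic := minpoly.monic (Algebra.IsIntegral.isIntegral _)
  -- `B` is irreducible
  have hscal : ∀ c : F, ∃ u, B u ≠ c • u := by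
    intro c
    by_contra hcon
    push Not at hcon
    apply hBi
    intro x y hxy
    rw [aeval_of_scalar (B := (B : Module.End F (perp Q W))) hcon, aeval_of_scalar (B := (B : Module.End F (perp Q W))) hcon] at hxy
    exact smul_right_injective _ (eval_ne_zero hirr (by rw [hdeg]; omega) c) hxy
  have hB1 : B ≠ 1 := by
    rintro h
    obtain ⟨u, hu⟩ := hscal 1
    apply hu
    rw [h, one_smul]
    rfl
  have hB2 : ∃ v, B v ≠ -v := by
    obtain ⟨u, hu⟩ := hscal (-1)
    exact ⟨u, by rwa [neg_one_smul] at hu⟩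
  have hno : ∀ u, u ≠ 0 → ∀ c : F, B u ≠ c • u := fun u hu c => no_eigen hDU hdU han hB hBev hB1 hB2 hu c
  have hBf : aeval (B : Module.End F (perp Q W)) f = 0 := (plane_dich hdU hno f).resolve_right hBi
  have hXf : aeval (X : Module.End F V) f = 0 := by
    apply LinearMap.ext
    intro v
    obtain ⟨a, b, rfl⟩ := exists_add_perp hnd v
    rw [hX, aeval_glue, hBf, hf, minpoly.aeval]
    simp
  have hXm : minpoly F (X : Module.End F V) = f := (minpoly.eq_of_irreducible_of_monic hirr hXf hfm).symm
  have hBm : minpoly F (B : Module.End F (perp Q W)) = f := (minpoly.eq_of_irreducible_of_monic hirr hBf hfm).symm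
  have hf2 : f.natDegree = 2 := by rw [← hBm]; exact (plane_minpoly hR hdU hB hno).2.1
  have hXO : X ∈ O Q := (glue_mem_O hnd).2 ⟨hw, hB⟩
  have hXirr : Irreducible (minpoly F (X : Module.End F V)) := by rw [hXm]; exact hirr
  have hX2 : ∃ v, X (X v) ≠ v := by
    obtain ⟨v, hv⟩ := hw2
    refine ⟨v, fun h => hv (Subtype.ext ?_)⟩
    rw [hX, glue_left, glue_left] at h
    exact h
  obtain ⟨k', m', hk', hm', hkm', hdeg', hcard⟩ := Cfsg.Agent.H510.CS.card_cent (frm_polar Q) (nd_polar hQ)
    (Or.inl rfl) (fun u v => polar_map hXO u v) hXirr hX2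
  rw [hXm, hf2] at hdeg'
  have hk1 : k' = 1 := by omega
  subst hk1
  have hmn : m' = n := by omega
  subst hmn
  rw [pow_one] at hcard
  have hfree : ∀ v, X v = v → v = 0 := by
    intro v hv
    obtain ⟨a, b, rfl⟩ := exists_add_perp hnd v
    rw [hX, glue_apply] at hv
    obtain ⟨h1, h2⟩ := (glue_eq_iff hnd).1 hv
    have hb : b = 0 := by
      by_contra hb0
      exact hno b hb0 1 (by rw [one_smul]; exact h2)
    have ha : a = 0 := by
      by_contra ha0
      have h3 : aeval (w : Module.End F W) (Polynomial.X - C 1 : F[X]) a = 0 := by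
        rw [map_sub, aeval_X, aeval_C, map_one, LinearMap.sub_apply, Module.End.one_apply, sub_eq_zero]
        exact h1
      rcases hdich (Polynomial.X - C 1) with h | h
      · obtain ⟨v, hv⟩ := hw2
        have h1 : ∀ v, w v = v := by
          intro v
          have h2 := LinearMap.congr_fun h v
          rw [map_sub, aeval_X, aeval_C, map_one, LinearMap.sub_apply, Module.End.one_apply, LinearMap.zero_apply,
            sub_eq_zero] at h2
          exact h2
        exact hv (by rw [h1, h1])
      · exact ha0 (h (by rw [h3, map_zero]))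
    rw [ha, hb]
    simp
  have hevc : ∀ g : V ≃ₗ[F] V, (∀ v, g (X v) = X (g v)) → ev g := by
    intro g hg
    have h3 := dvd_finrank hXirr (fixS g) (fun v hv => by
      rw [mem_fixS] at hv ⊢
      change g (X v) = X v
      rw [hg, hv])
    rw [hXm, hf2] at h3
    exact even_iff_two_dvd.2 h3
  set Kp := {g : V ≃ₗ[F] V // (∀ u v, polar Q (g u) (g v) = polar Q u v) ∧ ∀ v, g (X v) = X (g v)} with hKp
  by_cases hanti : (2 : F) ≠ 0 ∧ ∃ g₀ ∈ O Q, ev g₀ ∧ ∀ v, g₀ (X v) = - X (g₀ v)
  · obtain ⟨h2, g₀, hg0, hg0e, hg0a⟩ := hanti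
    obtain ⟨hsq, -⟩ := Cfsg.Agent.H510.CS.sq_of_neg (frm_polar Q) (nd_polar hQ)
      (fun u v => polar_map hXO u v) hXirr hX2 h2 hg0a
    refine ⟨2, Or.inr ⟨rfl, h2, ?_⟩, ?_⟩
    · rintro ⟨i, hi⟩
      obtain ⟨u, hu⟩ := exists_ne (0 : perp Q W)
      have hBsq : ∀ b, B (B b) = -b := by
        intro b
        apply Subtype.ext
        have h3 := hsq (b : V)
        rw [hX, glue_right, glue_right] at h3
        exact h3
      by_cases h3 : B u + i • u = 0
      · apply hno u hu (-i)
        rw [neg_smul]
        exact eq_neg_of_add_eq_zero_left h3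
      · apply hno _ h3 i
        rw [map_add, map_smul, hBsq, smul_add, smul_smul, ← hi, neg_one_smul, add_comm]
    · have hfinV : Finite V := Module.finite_of_finite F
      have hfinA : Finite (V ≃ₗ[F] V) :=
        Finite.of_injective (fun g : V ≃ₗ[F] V => (g : V → V)) DFunLike.coe_injective
      have hfinK : Finite Kp := by rw [hKp]; infer_instance
      rw [GU, ← hcard, two_mul, ← Nat.card_sum]
      have hgi : ∀ v, g₀.symm (X v) = - X (g₀.symm v) := by
        intro v
        rw [LinearEquiv.symm_apply_eq, map_neg, hg0a, LinearEquiv.apply_symm_apply, neg_neg]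
      let φ : Kp ⊕ Kp → KK Q X := Sum.elim
        (fun g => ⟨g.1, mem_O_of_comm hXO hfree g.2.1 g.2.2, hevc g.1 g.2.2, Or.inl g.2.2⟩)
        (fun g => ⟨g₀ * g.1, mul_mem hg0 (mem_O_of_comm hXO hfree g.2.1 g.2.2),
          (hD _ hg0 _ (mem_O_of_comm hXO hfree g.2.1 g.2.2)).2 ⟨fun _ => hevc g.1 g.2.2, fun _ => hg0e⟩, Or.inr (fun v => by
            change g₀ (g.1 (X v)) = - X (g₀ (g.1 v))
            rw [g.2.2, hg0a])⟩)
      symm
      apply Nat.card_eq_of_bijective φ
      have hX0 : ∀ (g : V ≃ₗ[F] V), (∀ v, g (X v) = X (g v)) → (∀ v, g (X v) = - X (g v)) → False := by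
        intro g h3 h4
        obtain ⟨v, hv⟩ := exists_ne (0 : V)
        have h5 := (h3 v).symm.trans (h4 v)
        have h6 : X (g v) ≠ 0 := fun h => hv (g.map_eq_zero_iff.1 (X.map_eq_zero_iff.1 h))
        exact neg_ne_of_ne h2 h6 h5
      constructor
      · rintro (g | g) (h | h) hgh
        · have h3 : g.1 = h.1 := congrArg (fun z : KK Q X => (z : V ≃ₗ[F] V)) hgh
          exact congrArg Sum.inl (Subtype.ext h3)
        · exfalso
          have h3 : g.1 = g₀ * h.1 := congrArg (fun z : KK Q X => (z : V ≃ₗ[F] V)) hgh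
          refine hX0 g.1 g.2.2 fun v => ?_
          rw [h3]
          change g₀ (h.1 (X v)) = - X (g₀ (h.1 v))
          rw [h.2.2, hg0a]
        · exfalso
          have h3 : g₀ * g.1 = h.1 := congrArg (fun z : KK Q X => (z : V ≃ₗ[F] V)) hgh
          refine hX0 h.1 h.2.2 fun v => ?_
          rw [← h3]
          change g₀ (g.1 (X v)) = - X (g₀ (g.1 v))
          rw [g.2.2, hg0a]
        · have h3 : g₀ * g.1 = g₀ * h.1 := congrArg (fun z : KK Q X => (z : V ≃ₗ[F] V)) hgh
          exact congrArg Sum.inr (Subtype.ext (mul_left_cancel h3))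
      · rintro ⟨g, hg1, hg2, hg3 | hg3⟩
        · exact ⟨Sum.inl ⟨g, fun u v => polar_map hg1 u v, hg3⟩, rfl⟩
        · refine ⟨Sum.inr ⟨g₀⁻¹ * g, fun u v => polar_map (mul_mem (inv_mem hg0) hg1) u v, fun v => ?_⟩, Subtype.ext ?_⟩
          · change g₀.symm (g (X v)) = X (g₀.symm (g v))
            rw [hg3, map_neg, hgi, neg_neg]
          · exact mul_inv_cancel_left g₀ g
  · refine ⟨1, Or.inl rfl, ?_⟩
    rw [one_mul, GU, ← hcard]
    refine Nat.card_congr (Equiv.subtypeEquivRight fun g => ⟨fun hg => ?_, fun hg =>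
      ⟨mem_O_of_comm hXO hfree hg.1 hg.2, hevc g hg.2, Or.inl hg.2⟩⟩)
    obtain ⟨hg1, hg2, hg3⟩ := hg
    refine ⟨fun u v => polar_map hg1 u v, ?_⟩
    rcases hg3 with hg3 | hg3
    · exact hg3
    · by_cases h2 : (2 : F) = 0
      · intro v
        rw [hg3, neg_eq_self h2]
      · exact absurd ⟨h2, g, hg1, hg2, hg3⟩ hanti

end main

end Cfsg.Agent.H286.CS
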