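import Cfsg.Agent.H510.CS.Cent
import Cfsg.Agent.H955.QElt
import Cfsg.Agent.H955.QType

/-!
# Isometries commuting with an isometry: linear algebra (helper286, for S3677)
-/

set_option autoImplicit false
set_option linter.unusedSectionVars false

namespace Cfsg.Agent.H286.CS

open Module QuadraticMap Polynomial
open Cfsg.Agent.LieClassical.OrthCore Cfsg.Agent.H955

universe u v

/-! ### Half of the elements -/

theorem card_half {G : Type*} [Group G] [Finite G] (P : G → Prop) (hP : ∀ g h, P (g * h) ↔ (P g ↔ P h))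
    (hρ : ∃ ρ, ¬ P ρ) : Nat.card G = 2 * Nat.card {g // P g} := by
  classical
  obtain ⟨ρ, hρ⟩ := hρ
  have h1 : Nat.card G = Nat.card {g // P g} + Nat.card {g // ¬ P g} := by
    rw [← Nat.card_sum]
    exact Nat.card_congr (Equiv.sumCompl P).symm
  have hinv : ∀ g, P (ρ⁻¹ * g) ↔ ¬ P g := by
    intro g
    have h3 := hP ρ (ρ⁻¹ * g)
    rw [mul_inv_cancel_left] at h3
    tauto
  have h2 : Nat.card {g // P g} = Nat.card {g // ¬ P g} := by
    refine Nat.card_congr ⟨fun g => ⟨ρ * g, ?_⟩, fun g => ⟨ρ⁻¹ * g, (hinv g).2 g.2⟩, fun g => ?_, fun g => ?_⟩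
    · rw [hP]
      have := g.2
      tauto
    · exact Subtype.ext (inv_mul_cancel_left _ _)
    · exact Subtype.ext (mul_inv_cancel_left _ _)
  rw [h1, ← h2]
  ring

/-! ### Polar forms -/

section basic

variable {F : Type u} [Field F] {V : Type v} [AddCommGroup V] [Module F V]

theorem frm_polar (Q : QuadraticForm F V) : Cfsg.Agent.H951.Frm (RingHom.id F) 1 (fun u v => polar Q u v) where
  add_left u v w := polar_add_left Q u v w
  smul_left a u v := by rw [polar_smul_left, smul_eq_mul]
  herm u v := by rw [one_mul, RingHom.id_apply, polar_comm]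
  sigma_sq _ := rfl
  eps_ne := one_ne_zero

theorem nd_polar {Q : QuadraticForm F V} (hQ : Nondeg Q) (u : V) (h : ∀ v : V, polar (⇑Q) u v = 0) : u = 0 := hQ u h

/-- isometries of the polar form commuting with an isometry without fixed vectors -/
theorem mem_O_of_comm [FiniteDimensional F V] {Q : QuadraticForm F V} {X : V ≃ₗ[F] V} (hX : X ∈ O Q)
    (hf : ∀ v, X v = v → v = 0) {g : V ≃ₗ[F] V} (hg : ∀ u v : V, polar ⇑Q (g u) (g v) = polar ⇑Q u v)
    (hc : ∀ v, g (X v) = X (g v)) : g ∈ O Q := by
  let D : V →ₗ[F] V := (X : V →ₗ[F] V) - LinearMap.id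
  have hDa : ∀ v, D v = X v - v := fun v => rfl
  have hinj : Function.Injective D := by
    rw [injective_iff_map_eq_zero]
    intro a ha
    apply hf
    rw [hDa, sub_eq_zero] at ha
    exact ha
  intro v
  obtain ⟨w, hw⟩ := LinearMap.surjective_of_injective hinj v
  have hw' : v = X w + (-1 : F) • w := by
    rw [← hw, hDa, neg_one_smul, sub_eq_add_neg]
  have e0 : ∀ x : V, Q (X x + (-1 : F) • x) = 2 * Q x - polar Q (X x) x := by
    intro x
    rw [Q_add, QuadraticMap.map_smul, hX, polar_smul_right, smul_eq_mul, smul_eq_mul]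
    ring
  have e1 : g v = X (g w) + (-1 : F) • (g w) := by rw [hw', map_add, map_smul, hc]
  have e2 : (2 : F) * Q (g w) = 2 * Q w := by
    rw [← Cfsg.Agent.LieClassical.OrthCore.polar_self', ← Cfsg.Agent.LieClassical.OrthCore.polar_self', hg]
  rw [e1, e0, e2, ← hc, hg, ← e0 w, ← hw']

/-- `P(A)` commutes with everything commuting with `A` -/
theorem comm_aeval {A T : Module.End F V} (hc : ∀ v, T (A v) = A (T v)) (P : F[X]) (v : V) :
    T (aeval A P v) = aeval A P (T v) := by
  have hpow : ∀ (i : ℕ) (v : V), T ((A ^ i) v) = (A ^ i) (T v) := by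
    intro i
    induction i with
    | zero => intro v; rfl
    | succ i ih =>
      intro v
      rw [pow_succ, Module.End.mul_apply, Module.End.mul_apply, ih, hc]
  induction P using Polynomial.induction_on' with
  | add p q hp hq => rw [map_add, LinearMap.add_apply, LinearMap.add_apply, map_add, hp, hq]
  | monomial i c =>
    rw [aeval_monomial, Module.End.mul_apply, Module.End.mul_apply, Module.algebraMap_end_apply,
      Module.algebraMap_end_apply, map_smul, hpow]

/-- the same with a sign -/
theorem anti_aeval {A T : Module.End F V} (hc : ∀ v, T (A v) = - A (T v)) (P : F[X]) (v : V) :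
    T (aeval A P v) = aeval A (P.comp (-X)) (T v) := by
  have h1 : aeval A (P.comp (-X)) = aeval (-A) P := by
    rw [aeval_comp, map_neg, aeval_X]
  rw [h1]
  have hpow : ∀ (i : ℕ) (v : V), T ((A ^ i) v) = ((-A) ^ i) (T v) := by
    intro i
    induction i with
    | zero => intro v; rfl
    | succ i ih =>
      intro v
      rw [pow_succ, Module.End.mul_apply, pow_succ, Module.End.mul_apply, ih, hc, LinearMap.neg_apply]
  induction P using Polynomial.induction_on' with
  | add p q hp hq =>
    rw [map_add, LinearMap.add_apply, map_add, hp, hq, map_add, LinearMap.add_apply]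
    · rw [aeval_comp, map_neg, aeval_X]
    · rw [aeval_comp, map_neg, aeval_X]
  | monomial i c =>
    rw [aeval_monomial, Module.End.mul_apply, aeval_monomial, Module.End.mul_apply, Module.algebraMap_end_apply,
      Module.algebraMap_end_apply, map_smul, hpow]

/-- a polynomial in `A` vanishes or is injective -/
theorem dich {A T : Module.End F V} (hc : ∀ v, T (A v) = A (T v))
    (hirr : ∀ M : Submodule F V, (∀ w ∈ M, T w ∈ M) → M = ⊥ ∨ M = ⊤) (P : F[X]) :
    aeval A P = 0 ∨ Function.Injective (aeval A P) := by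
  rcases hirr (LinearMap.ker (aeval A P)) (fun w hw => by
    rw [LinearMap.mem_ker] at hw ⊢
    rw [← comm_aeval hc, hw, map_zero]) with h | h
  · exact Or.inr (LinearMap.ker_eq_bot.1 h)
  · exact Or.inl (LinearMap.ker_eq_top.1 h)

theorem irr_minpoly [FiniteDimensional F V] [Nontrivial V] {A : Module.End F V}
    (h : ∀ P : F[X], aeval A P = 0 ∨ Function.Injective (aeval A P)) : Irreducible (minpoly F A) := by
  have hint : IsIntegral F A := Algebra.IsIntegral.isIntegral A
  refine ⟨minpoly.not_isUnit F A, fun a b hab => ?_⟩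
  have h0 : minpoly F A ≠ 0 := minpoly.ne_zero hint
  have ha0 : a ≠ 0 := by rintro rfl; rw [zero_mul] at hab; exact h0 hab
  have hb0 : b ≠ 0 := by rintro rfl; rw [mul_zero] at hab; exact h0 hab
  have hprod : aeval A a * aeval A b = 0 := by rw [← map_mul, ← hab, minpoly.aeval]
  have key : ∀ a b : F[X], a ≠ 0 → b ≠ 0 → minpoly F A = a * b → aeval A a = 0 → IsUnit b := by
    intro a b ha0 hb0 hab ha
    have h1 := minpoly.dvd F A ha
    rw [hab] at h1
    obtain ⟨c, hc⟩ := h1
    have h2 : b * c = 1 := by
      apply mul_left_cancel₀ ha0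
      rw [mul_one, ← mul_assoc, ← hc]
    exact IsUnit.of_mul_eq_one _ h2
  rcases h a with ha | ha
  · exact Or.inr (key a b ha0 hb0 hab ha)
  · left
    apply key b a hb0 ha0 (by rw [hab, mul_comm])
    apply LinearMap.ext
    intro v
    apply ha
    rw [← Module.End.mul_apply, hprod, LinearMap.zero_apply]
    exact ((aeval A a).map_zero).symm

theorem dvd_finrank [Finite F] [FiniteDimensional F V] {W : Module.End F V} (hirr : Irreducible (minpoly F W))
    (M : Submodule F V) (hM : ∀ v ∈ M, W v ∈ M) : (minpoly F W).natDegree ∣ finrank F M := by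
  obtain ⟨L, _, _, _, _, _, w, hw, hgen, hfr, -⟩ := Cfsg.Agent.H510.CS.exists_field hirr
  have hsm : ∀ (a : L) (v : V), v ∈ M → a • v ∈ M := by
    intro a v hv
    obtain ⟨P, rfl⟩ := hgen a
    induction P using Polynomial.induction_on' with
    | add p q hp hq => rw [map_add, add_smul]; exact M.add_mem hp hq
    | monomial i c =>
      rw [aeval_monomial, ← Algebra.smul_def, smul_assoc]
      apply M.smul_mem
      induction i with
      | zero => rw [pow_zero, one_smul]; exact hv
      | succ i ih => rw [pow_succ', mul_smul, hw]; exact hM _ ih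
  let M' : Submodule L V :=
    { carrier := {v | v ∈ M}
      add_mem' := fun ha hb => M.add_mem ha hb
      zero_mem' := M.zero_mem
      smul_mem' := fun a v hv => hsm a v hv }
  let e : M ≃ₗ[F] M' :=
    { toFun := fun v => ⟨v.1, v.2⟩
      invFun := fun v => ⟨v.1, v.2⟩
      left_inv := fun _ => rfl
      right_inv := fun _ => rfl
      map_add' := fun _ _ => rfl
      map_smul' := fun _ _ => rfl }
  rw [e.finrank_eq, ← hfr, ← Module.finrank_mul_finrank F L M']
  exact Dvd.intro _ rfl

end basic

/-! ### Parity of the dimension of the fixed space -/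

section parity

variable {F : Type u} [Field F] {V : Type v} [AddCommGroup V] [Module F V]

/-- the dimension of the fixed space is even -/
def ev (g : V ≃ₗ[F] V) : Prop := Even (finrank F (fixS g))

/-- parity is multiplicative -/
def Mult (Q : QuadraticForm F V) : Prop := ∀ g ∈ O Q, ∀ h ∈ O Q, (ev (g * h) ↔ (ev g ↔ ev h))

theorem finrank_fixS_glue [FiniteDimensional F V] {Q : QuadraticForm F V} {W : Submodule F V} (h : Nondeg (res Q W))
    (p : (W ≃ₗ[F] W) × (perp Q W ≃ₗ[F] perp Q W)) :
    finrank F (fixS (glue h p)) = finrank F (fixS p.1) + finrank F (fixS p.2) := by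
  have h1 : glue h p = tr (decomp h) (LinearEquiv.prodCongr p.1 p.2) := rfl
  have h2 : fixS (LinearEquiv.prodCongr p.1 p.2) = (fixS p.1).prod (fixS p.2) := by
    ext x
    rw [mem_fixS, Submodule.mem_prod, mem_fixS, mem_fixS]
    constructor
    · intro hx
      exact ⟨congrArg Prod.fst hx, congrArg Prod.snd hx⟩
    · rintro ⟨hx, hy⟩
      exact Prod.ext hx hy
  rw [h1, fixS_tr, LinearEquiv.finrank_map_eq, h2, (prodSub (fixS p.1) (fixS p.2)).finrank_eq, Module.finrank_prod]

theorem ev_one [FiniteDimensional F V] (hd : Even (finrank F V)) : ev (1 : V ≃ₗ[F] V) := by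
  have : fixS (1 : V ≃ₗ[F] V) = ⊤ := by
    rw [eq_top_iff]
    intro v _
    rw [mem_fixS]
    rfl
  rw [ev, this, finrank_top]
  exact hd

theorem ev_of_free {g : V ≃ₗ[F] V} (h : ∀ v, g v = v → v = 0) : ev g := by
  have : fixS g = ⊥ := by
    rw [eq_bot_iff]
    intro v hv
    exact h v (mem_fixS.1 hv)
  rw [ev, this, finrank_bot]
  exact Even.zero

theorem Mult.prp [FiniteDimensional F V] {Q : QuadraticForm F V} (hD : Mult Q) {W : Submodule F V}
    (h : Nondeg (res Q W)) (hW : Even (finrank F W)) : Mult (res Q (perp Q W)) := by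
  have key : ∀ b : perp Q W ≃ₗ[F] perp Q W, ev (glue h (1, b)) ↔ ev b := by
    intro b
    have h1 := finrank_fixS_glue h ((1, b) : (W ≃ₗ[F] W) × (perp Q W ≃ₗ[F] perp Q W))
    have h2 : Even (finrank F (fixS (1 : W ≃ₗ[F] W))) := ev_one hW
    rw [ev, ev, h1, Nat.even_add]
    simp [h2]
  intro g hg k hk
  rw [← key, ← key, ← key]
  have h1 : glue h ((1, g * k) : (W ≃ₗ[F] W) × (perp Q W ≃ₗ[F] perp Q W)) = glue h (1, g) * glue h (1, k) := by
    rw [← map_mul]
    congr 1
  rw [h1]
  exact hD _ ((glue_mem_O h).2 ⟨one_mem _, hg⟩) _ ((glue_mem_O h).2 ⟨one_mem _, hk⟩)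

theorem not_ev_refl [FiniteDimensional F V] {Q : QuadraticForm F V} (hQ : Nondeg Q) (hd : Even (finrank F V)) {v : V}
    (hv : Q v ≠ 0) : ¬ ev (refl Q v hv) := by
  have h1 : fixS (refl Q v hv) = H955.perp Q (Submodule.span F {v}) := by
    ext x
    rw [mem_fixS, refl_apply, mem_perp]
    constructor
    · intro hx w hw
      obtain ⟨c, rfl⟩ := Submodule.mem_span_singleton.1 hw
      have h2 : ((Q v)⁻¹ * polar Q v x) • v = 0 := by
        have := sub_eq_self.1 hx
        simpa [mul_comm] using this
      have hv0 : v ≠ 0 := by rintro rfl; exact hv (map_zero _)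
      have h3 := (smul_eq_zero.1 h2).resolve_right hv0
      have h4 := (mul_eq_zero.1 h3).resolve_left (inv_ne_zero hv)
      rw [polar_smul_left, h4, smul_zero]
    · intro hx
      have h2 := hx v (Submodule.mem_span_singleton_self v)
      rw [h2]
      simp
  have hv0 : v ≠ 0 := by rintro rfl; exact hv (map_zero _)
  have h2 := finrank_add_perp hQ (Submodule.span F {v})
  rw [finrank_span_singleton hv0] at h2
  rw [ev, h1]
  rw [← h2] at hd
  intro h3
  rw [Nat.even_add] at hd
  exact absurd (hd.2 h3) (by decide)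

end parity

end Cfsg.Agent.H286.CS
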