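import Cfsg.Agent.ClassicalGeometry.OrthDickson
import Cfsg.Agent.ClassicalGeometry.OmegaIndex
import Cfsg.Agent.LieClassical.OmegaCenter
import Cfsg.Agent.LieClassical.PomegaCard
import Cfsg.Agent.LieClassical.OmegaReindex
import Cfsg.Agent.H955.QElt

/-!
# Centralizers in `PΩ(Q)` in terms of isometries (helper286, for S3677)

`card_cent_mul` : for `x ∈ Ω(Q)` the order of the centralizer of the image of `x` in `PΩ(Q)` times
`|Z(Ω)| j` (`j = 1` in characteristic two, else `2`) is the number of `g ∈ O(Q)` with `dim Fix g` even and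
`g x = ± x g`.
-/

set_option autoImplicit false
set_option linter.unusedSectionVars false

namespace Cfsg.Agent.H286.CS

open Module QuadraticMap Matrix
open Cfsg.Agent.LieClassical.OrthCore Cfsg.Agent.H955
open Cfsg.Agent.ClassicalGeometry.Reflection Cfsg.Agent.ClassicalGeometry.SpinorSign
open Cfsg.Agent.ClassicalGeometry.OrthDickson Cfsg.Agent.ClassicalGeometry.OmegaIndex

/-! ### Centralizers modulo the centre -/

theorem card_cent_quot {D : Type*} [Group D] [Finite D] (x : D) :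
    Nat.card (Subgroup.centralizer ({(x : D ⧸ Subgroup.center D)} : Set (D ⧸ Subgroup.center D))) *
      Nat.card (Subgroup.center D) = Nat.card {g : D // g * x * g⁻¹ * x⁻¹ ∈ Subgroup.center D} := by
  set C := Subgroup.centralizer ({(x : D ⧸ Subgroup.center D)} : Set (D ⧸ Subgroup.center D)) with hC
  have hsurj : Function.Surjective (QuotientGroup.mk' (Subgroup.center D)) := QuotientGroup.mk'_surjective _
  have hmem : ∀ g : D, g ∈ C.comap (QuotientGroup.mk' (Subgroup.center D)) ↔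
      g * x * g⁻¹ * x⁻¹ ∈ Subgroup.center D := by
    intro g
    rw [Subgroup.mem_comap, hC, Subgroup.mem_centralizer_singleton_iff, ← QuotientGroup.eq_one_iff]
    constructor
    · intro h
      have h' : (g : D ⧸ Subgroup.center D) * (x : D ⧸ Subgroup.center D) =
        (x : D ⧸ Subgroup.center D) * (g : D ⧸ Subgroup.center D) := h
      rw [QuotientGroup.mk_mul, QuotientGroup.mk_mul, QuotientGroup.mk_mul, QuotientGroup.mk_inv, QuotientGroup.mk_inv,
        h', mul_inv_cancel_right, mul_inv_cancel]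
    · intro h
      rw [QuotientGroup.mk_mul, QuotientGroup.mk_mul, QuotientGroup.mk_mul, QuotientGroup.mk_inv, QuotientGroup.mk_inv,
        mul_inv_eq_one, mul_inv_eq_iff_eq_mul] at h
      exact h
  have hidx := Subgroup.index_comap_of_surjective C hsurj
  have e1 := (C.comap (QuotientGroup.mk' (Subgroup.center D))).card_mul_index
  have e2 := C.card_mul_index
  have e3 := Subgroup.card_eq_card_quotient_mul_card_subgroup (Subgroup.center D)
  rw [← e1, ← e2, hidx] at e3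
  have h0 : 0 < C.index := Nat.pos_of_ne_zero Subgroup.index_ne_zero_of_finite
  have e4 : Nat.card (C.comap (QuotientGroup.mk' (Subgroup.center D))) = Nat.card C * Nat.card (Subgroup.center D) := by
    apply Nat.eq_of_mul_eq_mul_right h0
    rw [e3]
    ring
  rw [← e4]
  exact Nat.card_congr (Equiv.subtypeEquivRight hmem)

/-! ### Signs -/

section sign

variable {ι : Type} [Fintype ι] [DecidableEq ι] {F : Type*} [Field F] {Q : QuadraticForm F (ι → F)}

/-- the matrix -/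
abbrev mt {Q : (ι → F) → F} (g : Cfsg.isometryGroup F Q) : Matrix ι ι F :=
  ((g : Matrix.GeneralLinearGroup ι F) : Matrix ι ι F)

theorem mt_mul {Q : (ι → F) → F} (g h : Cfsg.isometryGroup F Q) : mt (g * h) = mt g * mt h := rfl

theorem mt_one {Q : (ι → F) → F} : mt (1 : Cfsg.isometryGroup F Q) = 1 := rfl

theorem mt_ext {Q : (ι → F) → F} {g h : Cfsg.isometryGroup F Q} (H : mt g = mt h) : g = h :=
  Subtype.ext (Units.ext H)

theorem det_eq_dsign (hQ : (polarBilin Q).Nondegenerate)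
    (h : (∃ θ : F, θ ≠ 0 ∧ θ ≠ 1) ∨ Fintype.card ι ≠ 4) (g : Cfsg.isometryGroup F ⇑Q) :
    (mt g).det = (((dsign Q g : ℤˣ) : ℤ) : F) := by
  refine Cfsg.Agent.ClassicalGeometry.OrthCharTwo.isometry_induction Q hQ h
    (fun g => (mt g).det = (((dsign Q g : ℤˣ) : ℤ) : F)) ?_ ?_ g
  · rw [mt_one, det_one, dsign_one, Units.val_one, Int.cast_one]
  · intro v hv g hg
    rw [mt_mul, det_mul, hg, dsign_refl_mul Q hQ, Units.val_neg, Int.cast_neg, det_reflIso]
    ring

theorem det_eq_one_iff (h2 : (2 : F) ≠ 0) (hQ : (polarBilin Q).Nondegenerate)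
    (h : (∃ θ : F, θ ≠ 0 ∧ θ ≠ 1) ∨ Fintype.card ι ≠ 4) (g : Cfsg.isometryGroup F ⇑Q) :
    (mt g).det = 1 ↔ dsign Q g = 1 := by
  rw [det_eq_dsign hQ h]
  rcases Int.units_eq_one_or (dsign Q g) with h1 | h1
  · rw [h1]; simp
  · rw [h1]
    constructor
    · intro h3
      exfalso
      apply h2
      simp only [Units.val_neg, Units.val_one, Int.cast_neg, Int.cast_one] at h3
      linear_combination -h3
    · intro h3
      exact absurd h3 (by decide)

/-- the subgroup `{± 1}` -/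
def pm (Q : QuadraticForm F (ι → F)) : Subgroup (Cfsg.isometryGroup F ⇑Q) where
  carrier := {z | mt z = 1 ∨ mt z = -1}
  mul_mem' := by
    rintro a b (ha | ha) (hb | hb)
    · left; rw [mt_mul, ha, hb, one_mul]
    · right; rw [mt_mul, ha, hb, one_mul]
    · right; rw [mt_mul, ha, hb, mul_one]
    · left; rw [mt_mul, ha, hb, neg_mul_neg, one_mul]
  one_mem' := Or.inl rfl
  inv_mem' := by
    rintro a (ha | ha)
    · left
      have h1 : mt (a⁻¹) * mt a = 1 := by rw [← mt_mul, inv_mul_cancel, mt_one]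
      rwa [ha, mul_one] at h1
    · right
      have h1 : mt (a⁻¹) * mt a = 1 := by rw [← mt_mul, inv_mul_cancel, mt_one]
      rw [ha, mul_neg, mul_one] at h1
      rw [← h1, neg_neg]

theorem mem_pm {z : Cfsg.isometryGroup F ⇑Q} : z ∈ pm Q ↔ mt z = 1 ∨ mt z = -1 := Iff.rfl

instance : (pm Q).Normal := ⟨by
  rintro n (hn | hn) g
  · left
    rw [mt_mul, mt_mul, hn, mul_one, ← mt_mul, mul_inv_cancel, mt_one]
  · right
    rw [mt_mul, mt_mul, hn, mul_neg, mul_one, neg_mul, ← mt_mul, mul_inv_cancel, mt_one]⟩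

/-- the elements `g` of even residual dimension with `g x = ± x g` -/
noncomputable def KX (hQ : (polarBilin Q).Nondegenerate)
    (h : (∃ θ : F, θ ≠ 0 ∧ θ ≠ 1) ∨ Fintype.card ι ≠ 4) (x : Cfsg.isometryGroup F ⇑Q) :
    Subgroup (Cfsg.isometryGroup F ⇑Q) :=
  (dsignHom Q hQ h).ker ⊓ (Subgroup.centralizer ({(x : Cfsg.isometryGroup F ⇑Q ⧸ pm Q)} :
    Set (Cfsg.isometryGroup F ⇑Q ⧸ pm Q))).comap (QuotientGroup.mk' (pm Q))

theorem mem_KX {hQ : (polarBilin Q).Nondegenerate}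
    {h : (∃ θ : F, θ ≠ 0 ∧ θ ≠ 1) ∨ Fintype.card ι ≠ 4} {x g : Cfsg.isometryGroup F ⇑Q} :
    g ∈ KX hQ h x ↔ dsign Q g = 1 ∧ g * x * g⁻¹ * x⁻¹ ∈ pm Q := by
  rw [KX, Subgroup.mem_inf, MonoidHom.mem_ker, dsignHom_apply, Subgroup.mem_comap,
    Subgroup.mem_centralizer_singleton_iff, ← QuotientGroup.eq_one_iff]
  refine and_congr_right fun _ => ?_
  constructor
  · intro h
    have h' : (g : Cfsg.isometryGroup F ⇑Q ⧸ pm Q) * (x : Cfsg.isometryGroup F ⇑Q ⧸ pm Q) =
      (x : Cfsg.isometryGroup F ⇑Q ⧸ pm Q) * (g : Cfsg.isometryGroup F ⇑Q ⧸ pm Q) := h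
    rw [QuotientGroup.mk_mul, QuotientGroup.mk_mul, QuotientGroup.mk_mul, QuotientGroup.mk_inv, QuotientGroup.mk_inv,
      h', mul_inv_cancel_right, mul_inv_cancel]
  · intro h
    rw [QuotientGroup.mk_mul, QuotientGroup.mk_mul, QuotientGroup.mk_mul, QuotientGroup.mk_inv, QuotientGroup.mk_inv,
      mul_inv_eq_one, mul_inv_eq_iff_eq_mul] at h
    exact h

theorem comm_pm_iff {g x : Cfsg.isometryGroup F ⇑Q} :
    g * x * g⁻¹ * x⁻¹ ∈ pm Q ↔ mt g * mt x = mt x * mt g ∨ mt g * mt x = - (mt x * mt g) := by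
  have h1 : g * x = (g * x * g⁻¹ * x⁻¹) * (x * g) := by group
  have h2 : mt g * mt x = mt (g * x * g⁻¹ * x⁻¹) * (mt x * mt g) := by
    rw [← mt_mul, ← mt_mul, ← mt_mul, ← h1]
  have h3 : mt (g * x * g⁻¹ * x⁻¹) = mt g * mt x * mt ((x * g)⁻¹) := by
    rw [← mt_mul, ← mt_mul]
    congr 1
    group
  have h4 : mt (x * g) * mt ((x * g)⁻¹) = 1 := by rw [← mt_mul, mul_inv_cancel, mt_one]
  rw [mem_pm]
  constructor
  · rintro (h | h)
    · left; rw [h2, h, one_mul]
    · right; rw [h2, h, neg_mul, one_mul]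
  · rintro (h | h)
    · left; rw [h3, h, ← mt_mul, h4]
    · right; rw [h3, h, neg_mul, ← mt_mul, h4]

end sign

/-! ### The count -/

section count

variable {ι : Type} [Fintype ι] [DecidableEq ι] {F : Type*} [Field F] [Finite F] {Q : QuadraticForm F (ι → F)}

theorem card_inf (hQ : (polarBilin Q).Nondegenerate) (h : (∃ θ : F, θ ≠ 0 ∧ θ ≠ 1) ∨ Fintype.card ι ≠ 4)
    (hn : 3 ≤ Fintype.card ι) (hs : ∃ u : ι → F, u ≠ 0 ∧ Q u = 0) (x : Cfsg.Omega F ⇑Q) :
    Nat.card (Subgroup.centralizer ({(x : Cfsg.POmega F ⇑Q)} : Set (Cfsg.POmega F ⇑Q))) *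
      Nat.card (Subgroup.center (Cfsg.Omega F ⇑Q)) =
      Nat.card ((KX hQ h (x : Cfsg.isometryGroup F ⇑Q)) ⊓ Cfsg.Omega F ⇑Q : Subgroup (Cfsg.isometryGroup F ⇑Q)) := by
  rw [card_cent_quot]
  refine Nat.card_congr ⟨fun g => ⟨g.1.1, ?_, g.1.2⟩, fun g => ⟨⟨g.1, g.2.2⟩, ?_⟩, fun g => rfl, fun g => rfl⟩
  · refine mem_KX.2 ⟨dsign_eq_one_of_mem_commutator Q hQ h _ g.1.2, ?_⟩
    exact (Cfsg.Agent.LieClassical.OmegaCenter.mem_center_omega_iff Q hQ hn hs _).1 g.2
  · exact (Cfsg.Agent.LieClassical.OmegaCenter.mem_center_omega_iff Q hQ hn hs _).2 (mem_KX.1 g.2.1).2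

theorem card_KX_two (h2 : (2 : F) = 0) (hQ : (polarBilin Q).Nondegenerate)
    (h : (∃ θ : F, θ ≠ 0 ∧ θ ≠ 1) ∨ Fintype.card ι ≠ 4) (hn : 3 ≤ Fintype.card ι) (x : Cfsg.isometryGroup F ⇑Q) :
    KX hQ h x ⊓ Cfsg.Omega F ⇑Q = KX hQ h x := by
  have hι : Nonempty ι := Fintype.card_pos_iff.1 (by omega)
  have hidx := index_commutator_two Q h2 hQ h
  have hle : Cfsg.Omega F ⇑Q ≤ (dsignHom Q hQ h).ker := fun g hg => dsign_eq_one_of_mem_commutator Q hQ h g hg
  have heq : Cfsg.Omega F ⇑Q = (dsignHom Q hQ h).ker := by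
    have h3 : (dsignHom Q hQ h).ker.index ≠ 1 := by
      intro h4
      rw [Subgroup.index_eq_one] at h4
      obtain ⟨v, hv⟩ : ∃ v, Q v ≠ 0 := by
        by_contra hcon
        push Not at hcon
        obtain ⟨i⟩ := hι
        have h1 : (Pi.single i (1 : F) : ι → F) = 0 := by
          apply Cfsg.Agent.ClassicalGeometry.OrthCharTwo.nondeg_left Q hQ
          intro y
          rw [polar, hcon, hcon, hcon]
          ring
        have h3 := congrFun h1 i
        simp at h3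
      have h5 : reflIso Q v hv ∈ (dsignHom Q hQ h).ker := by rw [h4]; trivial
      rw [MonoidHom.mem_ker, dsignHom_apply, dsign_refl Q hQ] at h5
      exact absurd h5 (by decide)
    have h4 := Subgroup.relIndex_mul_index hle
    have hidx' : (Cfsg.Omega F ⇑Q).index = 2 := hidx
    rw [hidx'] at h4
    have h5 : (Cfsg.Omega F ⇑Q).relIndex (dsignHom Q hQ h).ker = 1 := by
      have h6 : (dsignHom Q hQ h).ker.index ∣ 2 := ⟨_, by rw [mul_comm]; exact h4.symm⟩
      have h7 := Nat.le_of_dvd two_pos h6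
      have h8 : (dsignHom Q hQ h).ker.index ≠ 0 := by
        intro h9
        rw [h9] at h4
        omega
      have h9 : (dsignHom Q hQ h).ker.index = 2 := by omega
      rw [h9] at h4
      omega
    exact le_antisymm hle (Subgroup.relIndex_eq_one.1 h5)
  rw [heq]
  exact inf_eq_left.2 inf_le_left

theorem card_KX_odd (h2 : (2 : F) ≠ 0) (hQ : (polarBilin Q).Nondegenerate)
    (h : (∃ θ : F, θ ≠ 0 ∧ θ ≠ 1) ∨ Fintype.card ι ≠ 4) (hn : 3 ≤ Fintype.card ι) (x : Cfsg.isometryGroup F ⇑Q)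
    (hb : ∃ b ∈ KX hQ h x, spinorSign ⇑Q 1 b = -1) :
    Nat.card (KX hQ h x) = 2 * Nat.card (KX hQ h x ⊓ Cfsg.Omega F ⇑Q : Subgroup (Cfsg.isometryGroup F ⇑Q)) := by
  set K := KX hQ h x with hK
  let φ : K →* ℤˣ := (spinorSign ⇑Q 1).comp K.subtype
  have h1 : Nat.card φ.ker = Nat.card (K ⊓ Cfsg.Omega F ⇑Q : Subgroup (Cfsg.isometryGroup F ⇑Q)) := by
    refine Nat.card_congr ⟨fun g => ⟨g.1.1, g.1.2, ?_⟩, fun g => ⟨⟨g.1, g.2.1⟩, ?_⟩, fun g => rfl, fun g => rfl⟩
    · exact (mem_Omega_iff h2 Q hQ (by omega) one_ne_zero _).2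
        ⟨(det_eq_one_iff h2 hQ h _).2 (mem_KX.1 g.1.2).1, g.2⟩
    · exact ((mem_Omega_iff h2 Q hQ (by omega) one_ne_zero _).1 g.2.2).2
  have h3 : Nat.card φ.range = 2 := by
    have h4 : φ.range = ⊤ := by
      rw [eq_top_iff]
      intro u _
      rcases Int.units_eq_one_or u with rfl | rfl
      · exact one_mem _
      · obtain ⟨b, hb1, hb2⟩ := hb
        exact ⟨⟨b, hb1⟩, hb2⟩
    rw [h4, Subgroup.card_top, Nat.card_eq_fintype_card]
    decide
  have h4 := φ.ker.card_mul_index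
  rw [Subgroup.index_ker, h3, h1] at h4
  rw [← h4, mul_comm]

/-- the factor `j` -/
theorem card_cent_mul (hQ : (polarBilin Q).Nondegenerate) (h : (∃ θ : F, θ ≠ 0 ∧ θ ≠ 1) ∨ Fintype.card ι ≠ 4)
    (hn : 3 ≤ Fintype.card ι) (hs : ∃ u : ι → F, u ≠ 0 ∧ Q u = 0) (x : Cfsg.Omega F ⇑Q)
    (hb : (2 : F) ≠ 0 → ∃ b ∈ KX hQ h (x : Cfsg.isometryGroup F ⇑Q), spinorSign ⇑Q 1 b = -1) {j : ℕ}
    (hj0 : (2 : F) = 0 → j = 1) (hj2 : (2 : F) ≠ 0 → j = 2) :
    Nat.card (Subgroup.centralizer ({(x : Cfsg.POmega F ⇑Q)} : Set (Cfsg.POmega F ⇑Q))) *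
      (Nat.card (Subgroup.center (Cfsg.Omega F ⇑Q)) * j) = Nat.card (KX hQ h (x : Cfsg.isometryGroup F ⇑Q)) := by
  rw [← mul_assoc, card_inf hQ h hn hs]
  by_cases h2 : (2 : F) = 0
  · rw [hj0 h2, mul_one, card_KX_two h2 hQ h hn]
  · rw [hj2 h2, card_KX_odd h2 hQ h hn _ (hb h2), mul_comm]

end count

end Cfsg.Agent.H286.CS
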