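import Cfsg.Agent.H286.CS.PSub
import Cfsg.Agent.Lib.Zsigmondy

/-!
# S3677, `PΩ⁺(2n,q)`, `n` even: no prime divides all the centralizer orders (helper286)
-/

set_option autoImplicit false
set_option linter.unusedSectionVars false

namespace Cfsg.Agent.H286.CS

open Module
open Cfsg Cfsg.Agent.H431.CS Cfsg.Agent.H364 Cfsg.Agent.H370.AAM

universe v

section num

theorem ord_two_seven : orderOf (((2 : ℕ)) : ZMod 7) = 3 := by
  have h3 : Fact (Nat.Prime 3) := ⟨by norm_num⟩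
  exact orderOf_eq_prime (by decide) (by decide)

theorem sq_mod {q : ℕ} (he : Odd q) : q ^ 2 % 4 = 1 := by
  have h3 : q % 4 = 1 ∨ q % 4 = 3 := by
    have := Nat.odd_iff.1 he
    omega
  rcases h3 with h3 | h3 <;> rw [Nat.pow_mod, h3]

theorem qn_mod {q n : ℕ} (hev : Even n) (he : Odd q) : q ^ n % 4 = 1 := by
  obtain ⟨k, hk⟩ := hev
  have h1 : q ^ n = (q ^ 2) ^ k := by rw [← pow_mul, hk]; congr 1; omega
  rw [h1, Nat.pow_mod, sq_mod he, one_pow]
  rfl

theorem not_even {a b c x y : ℕ} (hx : x = 4 * a + 2) (hy : y = 4 * b + 2) (h : 4 * c = x * y) : ¬ 2 ∣ c := by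
  rintro ⟨e, he⟩
  rw [hx, hy, he] at h
  have : (4 * a + 2) * (4 * b + 2) = 4 * (4 * a * b + 2 * a + 2 * b + 1) := by ring
  rw [this] at h
  have h7 := Nat.eq_of_mul_eq_mul_left (by norm_num : 0 < 4) h
  have h8 : 4 * a * b = 2 * (2 * a * b) := by ring
  omega

theorem odd_one_mod {q m c : ℕ} (h3 : q % 4 = 1) (h : 4 * c = (q ^ m + 1) * (q + 1)) : ¬ 2 ∣ c := by
  have h4 : q ^ m % 4 = 1 := by
    rw [Nat.pow_mod, h3, one_pow]
    rfl
  exact not_even (a := (q ^ m + 1) / 4) (b := (q + 1) / 4) (by omega) (by omega) h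

theorem odd_three_mod {q m c : ℕ} (h3 : q % 4 = 3) (hm : Odd m) (h : 4 * c = (q ^ m - 1) * (q - 1)) : ¬ 2 ∣ c := by
  have h4 : q ^ m % 4 = 3 := by
    obtain ⟨k, hk⟩ := hm
    have h5 : q ^ m = (q ^ 2) ^ k * q := by rw [← pow_mul, ← pow_succ, hk]
    have h7 : (q ^ 2) ^ k % 4 = 1 := by
      rw [Nat.pow_mod, sq_mod (Nat.odd_iff.2 (by omega)), one_pow]
      rfl
    rw [h5, Nat.mul_mod, h7, h3]
  exact not_even (a := (q ^ m - 1) / 4) (b := (q - 1) / 4) (by omega) (by omega) h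

theorem not_both {q m c₁ c₂ g t : ℕ} (hq : 1 ≤ q) (hm : Odd m) (h₁ : g * c₁ = (q ^ m + 1) * (q + 1))
    (h₂ : g * c₂ = (q ^ m - 1) * (q - 1)) (ht : t.Prime) (ht2 : t ≠ 2) (h1 : t ∣ c₁) (h2 : t ∣ c₂) : False := by
  have hq1 : 1 ≤ q ^ m := Nat.one_le_pow _ _ hq
  have h3 : t ∣ q ^ m + 1 := by
    have h4 : t ∣ (q ^ m + 1) * (q + 1) := by rw [← h₁]; exact h1.mul_left _
    rcases ht.dvd_mul.1 h4 with h5 | h5
    · exact h5
    · have := Odd.nat_add_dvd_pow_add_pow q 1 hm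
      rw [one_pow] at this
      exact h5.trans this
  have h4 : t ∣ q ^ m - 1 := by
    have h5 : t ∣ (q ^ m - 1) * (q - 1) := by rw [← h₂]; exact h2.mul_left _
    rcases ht.dvd_mul.1 h5 with h6 | h6
    · exact h6
    · have := Nat.sub_dvd_pow_sub_pow q 1 m
      rw [one_pow] at this
      exact h6.trans this
  have h5 : t ∣ 2 := by
    have := Nat.dvd_sub h3 h4
    have e : q ^ m + 1 - (q ^ m - 1) = 2 := by omega
    rwa [e] at this
  exact ht2 ((Nat.prime_dvd_prime_iff_eq ht Nat.prime_two).1 h5)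

end num

section co

variable {F : Type v} [Field F] [Fintype F] {p f n r : ℕ}

/-- the elements of order `r`, `ord_r(q) = 2 n - 2` -/
theorem card_cent_sub (hf : 1 ≤ f) (hF : Fintype.card F = p ^ f) (hn : 4 ≤ n) (hr : r.Prime)
    (ho : orderOf (((p ^ f : ℕ)) : ZMod r) = 2 * (n - 1)) (y : POmega F (quadFormPlus n F)) (hy : orderOf y = r) :
    Nat.gcd 4 ((p ^ f) ^ n - 1) * Nat.card (Subgroup.centralizer ({y} : Set (POmega F (quadFormPlus n F)))) =
      ((p ^ f) ^ (n - 1) + 1) * (p ^ f + 1) := by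
  obtain ⟨hrq, hr7, hrp⟩ := r_facts hn hf hr ho
  have hy1 : y ≠ 1 := by
    rintro rfl
    rw [orderOf_one] at hy
    exact hr.one_lt.ne hy
  have hyr : y ^ r = 1 := by rw [← hy]; exact pow_orderOf_eq_one y
  have hl := plist (F := F) hn hr (by omega) (by rw [hF]; exact hrq) (by rw [hF]; exact ho) hy1
    (dvd_cent (Commute.refl y) hy.symm.dvd)
  rw [hF] at hl
  rcases hl with ⟨h, -⟩ | ⟨h, -⟩ | ⟨k, m, hk, hm, hkm, h1, h2⟩
  · exact absurd hyr h
  · exact absurd hyr h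
  · have hm1 := h2 hyr
    subst hm1
    rw [mul_one] at hkm
    rw [h1, hkm]
    congr 1
    exact Cfsg.Agent.H510.CS.gu_one _

/-- primes dividing `|PΩ⁺(2n,q)|` -/
theorem exists_of_dvd {q : ℕ} (hF : Fintype.card F = q) (hn : 4 ≤ n) {s : ℕ} (hs : s.Prime)
    (hs4 : ¬ s ∣ Nat.gcd 4 (q ^ n - 1))
    (h : s ∣ q ^ (n * (n - 1)) * (q ^ n - 1) * ∏ i ∈ Finset.range (n - 1), (q ^ (2 * (i + 1)) - 1)) :
    ∃ y : POmega F (quadFormPlus n F), orderOf y = s := by
  have hsf : Fact s.Prime := ⟨hs⟩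
  rw [← Cfsg.Agent.S0293.result hF n hn] at h
  exact exists_prime_orderOf_dvd_card' s ((hs.dvd_mul.1 h).resolve_left hs4)

theorem exists_of_dvd_sub {q : ℕ} (hF : Fintype.card F = q) (hn : 4 ≤ n) {s j : ℕ} (hs : s.Prime)
    (hs4 : 4 < s) (hj : 0 < j) (hjn : j ≤ n - 1) (h : s ∣ q ^ (2 * j) - 1) :
    ∃ y : POmega F (quadFormPlus n F), orderOf y = s := by
  refine exists_of_dvd hF hn hs (fun h1 => ?_) (Dvd.dvd.mul_left ?_ _)
  · have := Nat.le_of_dvd (by norm_num) (h1.trans (Nat.gcd_dvd_left _ _))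
    omega
  · have h1 : q ^ (2 * j) - 1 ∣ ∏ i ∈ Finset.range (n - 1), (q ^ (2 * (i + 1)) - 1) := by
      have h2 := Finset.dvd_prod_of_mem (fun i => q ^ (2 * (i + 1)) - 1)
        (Finset.mem_range.2 (show j - 1 < n - 1 by omega))
      rwa [show j - 1 + 1 = j by omega] at h2
    exact h.trans h1

/-- **co_coprime**, given the torus `(q ^ (n - 1) - 1) (q - 1)` -/
theorem co_coprime_of (hn : 4 ≤ n) (hev : Even n)
    (H : ∀ r : ℕ, r.Prime → orderOf (((Fintype.card F : ℕ)) : ZMod r) = n - 1 →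
      ∀ y : POmega F (quadFormPlus n F), orderOf y = r →
        Nat.gcd 4 ((Fintype.card F) ^ n - 1) *
          Nat.card (Subgroup.centralizer ({y} : Set (POmega F (quadFormPlus n F)))) =
            ((Fintype.card F) ^ (n - 1) - 1) * (Fintype.card F - 1)) :
    ∀ t : ℕ, t.Prime → ∃ c ∈ Co (POmega F (quadFormPlus n F)), ¬ t ∣ c := by
  obtain ⟨p, hpc⟩ := CharP.exists F
  have hp : p.Prime := CharP.char_is_prime F p
  obtain ⟨f, hfp, hFf⟩ := FiniteField.card F p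
  have hf : 1 ≤ (f : ℕ) := f.pos
  obtain ⟨q, hq⟩ : ∃ q, q = Fintype.card F := ⟨_, rfl⟩
  have hF : Fintype.card F = q := hq.symm
  rw [hF] at H
  have hqp : q = p ^ (f : ℕ) := hq.trans hFf
  have hq2 : 2 ≤ q := by
    rw [← hF]
    exact Fintype.one_lt_card
  have hodd1 : Odd (n - 1) := by
    obtain ⟨k, hk⟩ := hev
    exact ⟨k - 1, by omega⟩
  -- the prime of order `n - 1`
  obtain ⟨r₂, hr₂, ho₂⟩ := Cfsg.Agent.Lib.Zsigmondy.exists_prime_orderOf (a := q) (n := n - 1) hq2 (by omega)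
    (by omega) (by
      rintro ⟨-, h6⟩
      rw [h6] at hodd1
      exact absurd hodd1 (by decide))
  have hdr : ∀ {a r : ℕ}, r.Prime → orderOf (q : ZMod r) = a → 0 < a → a ≤ r - 1 ∧ r ∣ q ^ a - 1 := by
    intro a r hr ho ha
    have hrf : Fact r.Prime := ⟨hr⟩
    have h0 : (q : ZMod r) ≠ 0 := by
      intro h
      rw [h, orderOf_eq_zero_iff'.2 (fun k hk => by rw [zero_pow (by omega)]; exact zero_ne_one)] at ho
      omega
    have h1 := ZMod.orderOf_dvd_card_sub_one h0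
    rw [ho] at h1
    exact ⟨Nat.le_of_dvd (by have := hr.two_le; omega) h1, (dvd_iff_ord (by omega) ho a).2 dvd_rfl⟩
  obtain ⟨hr₂1, hr₂2⟩ := hdr hr₂ ho₂ (by omega)
  have hr₂4 : 4 < r₂ := by
    rcases Nat.lt_or_ge 4 r₂ with h | h
    · exact h
    · exfalso
      have h4 : r₂ = 4 := by omega
      rw [h4] at hr₂
      exact absurd hr₂ (by decide)
  obtain ⟨y₂, hy₂⟩ := exists_of_dvd_sub (F := F) hF hn hr₂ hr₂4 (j := n - 1) (by omega) le_rfl (by
    rw [mul_comm 2, pow_mul]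
    refine hr₂2.trans ?_
    have := Nat.sub_dvd_pow_sub_pow (q ^ (n - 1)) 1 2
    rwa [one_pow] at this)
  have hc₂ := H r₂ hr₂ ho₂ y₂ hy₂
  have hc₂m : Nat.card (Subgroup.centralizer ({y₂} : Set (POmega F (quadFormPlus n F)))) ∈
    Co (POmega F (quadFormPlus n F)) := mem_co y₂
  obtain ⟨c₂, hc₂e⟩ : ∃ c, c = Nat.card (Subgroup.centralizer ({y₂} : Set (POmega F (quadFormPlus n F)))) := ⟨_, rfl⟩
  rw [← hc₂e] at hc₂ hc₂m
  intro t ht
  have htf : Fact t.Prime := ⟨ht⟩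
  by_cases h24 : q = 2 ∧ n = 4
  · -- `q = 2`, `n = 4`
    obtain ⟨h1, h2⟩ := h24
    have h3 : Nat.gcd 4 (q ^ n - 1) = 1 := by rw [h1, h2]; decide
    have h4 : (q ^ (n - 1) - 1) * (q - 1) = 7 := by rw [h1, h2]; norm_num
    rw [h3, one_mul, h4] at hc₂
    by_cases ht7 : t ∣ c₂
    · have h7 : t = 7 := by
        rw [hc₂] at ht7
        exact (Nat.prime_dvd_prime_iff_eq ht (by norm_num)).1 ht7
      -- an involution
      obtain ⟨x, hx⟩ := exists_of_dvd (F := F) (s := 2) hF hn Nat.prime_two (by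
        rw [h3]
        norm_num) (by
        rw [mul_assoc, h1]
        exact (dvd_pow_self 2 (by rw [h2]; norm_num)).mul_right _)
      refine ⟨_, mem_co x, fun hd => ?_⟩
      rw [h7] at hd
      have h7f : Fact (Nat.Prime 7) := ⟨by norm_num⟩
      obtain ⟨⟨y, hy⟩, hyr⟩ := exists_prime_orderOf_dvd_card' 7 hd
      rw [Subgroup.orderOf_mk] at hyr
      have h8 : orderOf (q : ZMod 7) = n - 1 := by
        rw [h1, h2]
        exact ord_two_seven
      have h9 := H 7 (by norm_num) h8 y hyr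
      rw [h3, one_mul, h4] at h9
      have h10 : 2 ∣ Nat.card (Subgroup.centralizer ({y} : Set (POmega F (quadFormPlus n F)))) :=
        dvd_cent (mem_cent.1 hy).symm hx.symm.dvd
      rw [h9] at h10
      norm_num at h10
    · exact ⟨c₂, hc₂m, ht7⟩
  -- the prime of order `2 (n - 1)`
  obtain ⟨r₁, hr₁, ho₁⟩ := Cfsg.Agent.Lib.Zsigmondy.exists_prime_orderOf (a := q) (n := 2 * (n - 1)) hq2 (by omega)
    (by omega) (by
      rintro ⟨h5, h6⟩
      exact h24 ⟨h5, by omega⟩)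
  obtain ⟨hr₁1, hr₁2⟩ := hdr hr₁ ho₁ (by omega)
  obtain ⟨y₁, hy₁⟩ := exists_of_dvd_sub (F := F) hF hn hr₁ (by omega) (j := n - 1) (by omega) le_rfl hr₁2
  have hc₁ := card_cent_sub hf hFf hn hr₁ (by rw [← hqp]; exact ho₁) y₁ hy₁
  rw [← hqp] at hc₁
  have hc₁m : Nat.card (Subgroup.centralizer ({y₁} : Set (POmega F (quadFormPlus n F)))) ∈
    Co (POmega F (quadFormPlus n F)) := mem_co y₁
  obtain ⟨c₁, hc₁e⟩ : ∃ c, c = Nat.card (Subgroup.centralizer ({y₁} : Set (POmega F (quadFormPlus n F)))) := ⟨_, rfl⟩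
  rw [← hc₁e] at hc₁ hc₁m
  by_cases ht2 : t = 2
  · subst ht2
    rcases Nat.even_or_odd q with he | he
    · refine ⟨c₂, hc₂m, fun hd => ?_⟩
      have h1 : 2 ∣ (q ^ (n - 1) - 1) * (q - 1) := by
        rw [← hc₂]
        exact hd.mul_left _
      have h2 : Odd (q ^ (n - 1) - 1) :=
        Nat.Even.sub_odd (Nat.one_le_pow _ _ (by omega)) (he.pow_of_ne_zero (by omega)) odd_one
      have h3 : Odd (q - 1) := Nat.Even.sub_odd (by omega) he odd_one
      exact absurd (even_iff_two_dvd.2 h1) (Nat.not_even_iff_odd.2 (h2.mul h3))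
    · -- `g = 4`
      have hqn := qn_mod hev he
      have hg4 : Nat.gcd 4 (q ^ n - 1) = 4 := Cfsg.Agent.LieClassical.PomegaCard.gcd_four_of_dvd (by omega)
      rw [hg4] at hc₁ hc₂
      have hq3 : q % 4 = 1 ∨ q % 4 = 3 := by
        have := Nat.odd_iff.1 he
        omega
      rcases hq3 with h3 | h3
      · exact ⟨c₁, hc₁m, odd_one_mod h3 hc₁⟩
      · exact ⟨c₂, hc₂m, odd_three_mod h3 hodd1 hc₂⟩
  · -- `t` odd
    by_contra hcon
    push Not at hcon
    exact not_both (by omega) hodd1 hc₁ hc₂ ht ht2 (hcon c₁ hc₁m) (hcon c₂ hc₂m)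

end co

end Cfsg.Agent.H286.CS
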