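import Cfsg.Agent.H286.CS.Brg
import Cfsg.Agent.S0293

/-!
# The centralizers of the elements of `PΩ⁺(2n,q)` of order divisible by `r`, `ord_r(q) = 2 n - 2` (helper286, for S3677)
-/

set_option autoImplicit false
set_option linter.unusedSectionVars false

namespace Cfsg.Agent.H286.CS

open Module QuadraticMap Matrix
open Cfsg.Agent.LieClassical.OrthCore Cfsg.Agent.H955
open Cfsg.Agent.ClassicalGeometry.Reflection Cfsg.Agent.ClassicalGeometry.SpinorSign
open Cfsg.Agent.ClassicalGeometry.OrthDickson Cfsg.Agent.ClassicalGeometry.OmegaIndex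
open Cfsg.Agent.LieClassical.OmegaReindex Cfsg.Agent.LieClassical.PomegaCard Cfsg.Agent.LieClassical.OmegaCenter

universe u

section gen

/-- `T` commutes with `x` up to an involution and has odd order, so it commutes with `x`. -/
theorem comm_of_center {D : Type*} [Group D] (hZ : ∀ z ∈ Subgroup.center D, z ^ 2 = 1) {r : ℕ} (hr : Odd r) {t x : D}
    (ht : t ^ r = 1) (h : t * x * t⁻¹ * x⁻¹ ∈ Subgroup.center D) : t * x = x * t := by
  set z := t * x * t⁻¹ * x⁻¹ with hz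
  have h1 : t * x * t⁻¹ = z * x := by rw [hz]; group
  have hzc : ∀ y, z * y = y * z := fun y => (Subgroup.mem_center_iff.1 h y).symm
  have h2 : ∀ k : ℕ, t ^ k * x * (t ^ k)⁻¹ = z ^ k * x := by
    intro k
    induction k with
    | zero => simp
    | succ k ih =>
      have h3 : t ^ (k + 1) * x * (t ^ (k + 1))⁻¹ = t * (t ^ k * x * (t ^ k)⁻¹) * t⁻¹ := by
        rw [pow_succ']
        group
      have hzk : t * z ^ k = z ^ k * t := ((Commute.pow_left (show Commute z t from hzc t) k).eq).symm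
      rw [h3, ih, ← mul_assoc, hzk, mul_assoc, mul_assoc, ← mul_assoc t, h1, ← mul_assoc, pow_succ]
  have h3 := h2 r
  rw [ht, one_mul, inv_one, mul_one] at h3
  have h4 : z ^ r = 1 := by
    have : z ^ r * x = 1 * x := by rw [one_mul, ← h3]
    exact mul_right_cancel this
  have h5 : z = 1 := by
    obtain ⟨k, hk⟩ := hr
    have := hZ z h
    rw [hk, pow_succ, pow_mul, this, one_pow, one_mul] at h4
    exact h4
  rw [h5, one_mul] at h1
  exact mul_inv_eq_iff_eq_mul.1 h1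

/-- an element of odd prime order modulo the centre of exponent two lifts to one of the same order. -/
theorem exists_lift {D : Type*} [Group D] (hZ : ∀ z ∈ Subgroup.center D, z ^ 2 = 1) {r : ℕ} (hr : Odd r)
    (y : D ⧸ Subgroup.center D) (hy : y ^ r = 1) : ∃ t : D, (t : D ⧸ Subgroup.center D) = y ∧ t ^ r = 1 := by
  obtain ⟨y, rfl⟩ := QuotientGroup.mk_surjective y
  have h1 : y ^ r ∈ Subgroup.center D := by
    rw [← QuotientGroup.eq_one_iff, QuotientGroup.mk_pow]
    exact hy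
  obtain ⟨k, hk⟩ := hr
  refine ⟨y ^ (r + 1), ?_, ?_⟩
  · rw [QuotientGroup.mk_pow, pow_succ, hy, one_mul]
  · rw [← pow_mul, show (r + 1) * r = (r * 2) * (k + 1) by rw [hk]; ring, pow_mul, pow_mul, hZ _ h1, one_pow]

end gen

section plus

variable {F : Type u} [Field F] {n : ℕ}

theorem isPlus_quadPlus : IsPlus (quadPlus n F) := by
  refine ⟨LinearMap.ker (LinearMap.funLeft F F (Sum.inl : Fin n → Fin n ⊕ Fin n)), ?_, ?_⟩
  · intro u hu
    rw [coe_quadPlus, Cfsg.quadFormPlus]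
    refine Finset.sum_eq_zero fun i _ => ?_
    have : u (.inl i) = 0 := congrFun (LinearMap.mem_ker.1 hu) i
    rw [this, zero_mul]
  · have h1 := LinearMap.finrank_range_add_finrank_ker (LinearMap.funLeft F F (Sum.inl : Fin n → Fin n ⊕ Fin n))
    rw [LinearMap.range_eq_top.2 (LinearMap.funLeft_surjective_of_injective _ _ _ Sum.inl_injective), finrank_top,
      Module.finrank_fintype_fun_eq_card, Module.finrank_fintype_fun_eq_card, Fintype.card_fin, Fintype.card_sum,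
      Fintype.card_fin] at h1
    rw [Module.finrank_fintype_fun_eq_card, Fintype.card_sum, Fintype.card_fin]
    omega

theorem finrank_quadPlus : finrank F (Fin n ⊕ Fin n → F) = 2 * n := by
  rw [Module.finrank_fintype_fun_eq_card, Fintype.card_sum, Fintype.card_fin, two_mul]

theorem nondeg_quadPlus : Nondeg (quadPlus n F) := fun x hx => quadPlus_nondegenerate.1 x hx

theorem card_iota : Fintype.card (Fin n ⊕ Fin n) = 2 * n := by
  rw [Fintype.card_sum, Fintype.card_fin, two_mul]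

variable [Fintype F]

/-- `|Z(Ω)| j = gcd(4, q^n - 1)` -/
theorem card_center_mul (hn : 4 ≤ n) {j : ℕ} (hj0 : (2 : F) = 0 → j = 1) (hj2 : (2 : F) ≠ 0 → j = 2) :
    Nat.card (Subgroup.center (Cfsg.Omega F ⇑(quadPlus n F))) * j = Nat.gcd 4 (Fintype.card F ^ n - 1) := by
  have hQ : (polarBilin (quadPlus n F)).Nondegenerate := quadPlus_nondegenerate
  have hs := quadPlus_isotropic (m := n) (F := F) (by omega)
  have hc : 3 ≤ Fintype.card (Fin n ⊕ Fin n) := by rw [card_iota]; omega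
  by_cases h2 : (2 : F) = 0
  · have hev : Fintype.card F % 2 = 0 := by
      rw [← Nat.even_iff, ← Nat.not_odd_iff_even, odd_card_iff]
      exact not_not.2 h2
    have hqm : Fintype.card F ^ n % 2 = 0 := by
      rw [Nat.pow_mod, hev, Nat.zero_pow (by omega)]
    have hq1 : 1 ≤ Fintype.card F ^ n := Nat.one_le_pow _ _ Fintype.card_pos
    rw [hj0 h2, mul_one, card_center_omega_two h2 _ hQ hc hs, gcd_four_of_odd (by omega)]
  · have hodd : Odd (Fintype.card F) := by rw [odd_card_iff]; exact h2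
    have h790 := Cfsg.Agent.S0790.result (F := F) rfl hodd n (by omega)
    rw [← coe_quadPlus] at h790
    have hoddm : Fintype.card F ^ n % 2 = 1 := Nat.odd_iff.1 hodd.pow
    rw [hj2 h2]
    by_cases h1 : Fintype.card F ^ n % 4 = 1
    · rw [gcd_four_of_dvd (by omega), card_center_omega_of_mem h2 _ hQ hc hs (h790.2 h1)]
    · rw [gcd_four_of_two (by omega), card_center_omega_of_not_mem _ hQ hc hs (fun h => h1 (h790.1 h))]

/-- the list for lifts -/
theorem plist_aux (hn : 4 ≤ n) {r : ℕ} [hr : Fact r.Prime] (hr2 : 2 < r) (hrF : ¬ r ∣ Fintype.card F)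
    (he : orderOf (Fintype.card F : ZMod r) = 2 * (n - 1)) {Q : QuadraticForm F (Fin n ⊕ Fin n → F)}
    (hQe : Q = quadPlus n F) {x t : Cfsg.Omega F ⇑Q}
    (hx : x ∉ Subgroup.center (Cfsg.Omega F ⇑Q)) (ht : t ^ r = 1) (ht1 : t ≠ 1) (hc : t * x = x * t) :
    (x ≠ t ∧ ∃ a, (a = 1 ∨ (a = 2 ∧ (2 : F) ≠ 0)) ∧ Nat.gcd 4 (Fintype.card F ^ n - 1) *
        Nat.card (Subgroup.centralizer ({(x : Cfsg.POmega F ⇑Q)} : Set (Cfsg.POmega F ⇑Q))) =
      Fintype.card F ^ ((n - 1) * (n - 2)) * ((Fintype.card F ^ (n - 1) + 1) *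
        (∏ i ∈ Finset.range (n - 2), (Fintype.card F ^ (2 * (i + 1)) - 1)) * ((Fintype.card F + 1) * a))) ∨
    (x ≠ t ∧ ∃ a, (a = 1 ∨ (a = 2 ∧ (2 : F) ≠ 0 ∧ ¬ IsSquare (-1 : F))) ∧ Nat.gcd 4 (Fintype.card F ^ n - 1) *
        Nat.card (Subgroup.centralizer ({(x : Cfsg.POmega F ⇑Q)} : Set (Cfsg.POmega F ⇑Q))) =
          a * GU n (Fintype.card F)) ∨
    (∃ k m, 0 < k ∧ 0 < m ∧ k * m = n - 1 ∧ Nat.gcd 4 (Fintype.card F ^ n - 1) *
        Nat.card (Subgroup.centralizer ({(x : Cfsg.POmega F ⇑Q)} : Set (Cfsg.POmega F ⇑Q))) =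
          GU m (Fintype.card F ^ k) * (Fintype.card F + 1) ∧ (x = t → m = 1)) := by
  have hQ : (polarBilin Q).Nondegenerate := by rw [hQe]; exact quadPlus_nondegenerate
  have hs : ∃ u, u ≠ 0 ∧ Q u = 0 := by rw [hQe]; exact quadPlus_isotropic (by omega)
  have hci : 3 ≤ Fintype.card (Fin n ⊕ Fin n) := by rw [card_iota]; omega
  have h : (∃ θ : F, θ ≠ 0 ∧ θ ≠ 1) ∨ Fintype.card (Fin n ⊕ Fin n) ≠ 4 := Or.inr (by rw [card_iota]; omega)
  have hev : Even (Fintype.card (Fin n ⊕ Fin n)) := by rw [card_iota]; exact even_two_mul _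
  have hND : Nondeg Q := by rw [hQe]; exact nondeg_quadPlus
  have hP : IsPlus Q := by rw [hQe]; exact isPlus_quadPlus
  have hfin : finrank F (Fin n ⊕ Fin n → F) = 2 * n := finrank_quadPlus
  have hM : Mult Q := mult_lin _ hQ h hev
  have hcF : Nat.card F = Fintype.card F := Nat.card_eq_fintype_card
  have hrF' : ¬ r ∣ Nat.card F := by rw [hcF]; exact hrF
  have he' : orderOf (Nat.card F : ZMod r) = 2 * (n - 1) := by rw [hcF]; exact he
  -- the operators
  have hTr : (lin Q (t : Cfsg.isometryGroup F ⇑Q)) ^ r = 1 := by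
    rw [← map_pow, ← Subgroup.coe_pow, ht, Subgroup.coe_one, map_one]
  have hT1 : lin Q (t : Cfsg.isometryGroup F ⇑Q) ≠ 1 := by
    intro h1
    apply ht1
    apply Subtype.ext
    apply lin_injective Q
    rw [h1, Subgroup.coe_one, map_one]
  have hX := lin_mem_O Q (x : Cfsg.isometryGroup F ⇑Q)
  have hXev : ev (lin Q (x : Cfsg.isometryGroup F ⇑Q)) :=
    (ev_lin Q hev _).2 (dsign_eq_one_of_mem_commutator Q hQ h _ x.2)
  have hcom : ∀ v, lin Q (x : Cfsg.isometryGroup F ⇑Q) (lin Q (t : Cfsg.isometryGroup F ⇑Q) v) =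
      lin Q (t : Cfsg.isometryGroup F ⇑Q) (lin Q (x : Cfsg.isometryGroup F ⇑Q) v) := by
    intro v
    have h1 := congrArg (fun y : Cfsg.Omega F ⇑Q => lin Q (y : Cfsg.isometryGroup F ⇑Q) v) hc
    simp only [Subgroup.coe_mul, map_mul, LinearEquiv.mul_apply] at h1
    exact h1.symm
  have hX1 : ∃ v, lin Q (x : Cfsg.isometryGroup F ⇑Q) v ≠ v := by
    by_contra hcon
    push Not at hcon
    apply hx
    rw [mem_center_omega_iff Q hQ hci hs]
    left
    rw [mt_eq_iff]
    intro v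
    rw [Matrix.one_mulVec]
    exact hcon v
  have hX2 : ∃ v, lin Q (x : Cfsg.isometryGroup F ⇑Q) v ≠ -v := by
    by_contra hcon
    push Not at hcon
    apply hx
    rw [mem_center_omega_iff Q hQ hci hs]
    right
    rw [mt_eq_iff]
    intro v
    rw [Matrix.neg_mulVec, Matrix.one_mulVec]
    exact hcon v
  have hcent : Nat.gcd 4 (Fintype.card F ^ n - 1) *
      Nat.card (Subgroup.centralizer ({(x : Cfsg.POmega F ⇑Q)} : Set (Cfsg.POmega F ⇑Q))) =
        Nat.card (KK Q (lin Q (x : Cfsg.isometryGroup F ⇑Q))) := by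
    obtain ⟨j, hj0, hj2⟩ : ∃ j : ℕ, ((2 : F) = 0 → j = 1) ∧ ((2 : F) ≠ 0 → j = 2) := by
      by_cases h2 : (2 : F) = 0
      · exact ⟨1, fun _ => rfl, fun h3 => absurd h2 h3⟩
      · exact ⟨2, fun h3 => absurd h3 h2, fun _ => rfl⟩
    have hcm := card_center_mul (F := F) hn hj0 hj2
    rw [← hQe] at hcm
    rw [← hcm, ← card_KX_eq hev hQ h, ← card_cent_mul hQ h hci hs x ?_ hj0 hj2, mul_comm]
    intro h2
    refine exists_b h2 hQ h fun c hc0 => ?_
    exact exists_rot hND hM (by omega) hfin hP hr2 hrF' he' (lin_mem_O Q _) hTr hT1 hX hXev hcom hc0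
  have hlist := list_X hND hM (by omega) hfin hP hr2 hrF' he' (lin_mem_O Q _) hTr hT1 hX hXev hcom hX1 hX2
  rw [hcF, ← hcent] at hlist
  rcases hlist with h1 | h1 | ⟨k, m, hk, hm, hkm, h1, h2⟩
  · refine Or.inl ⟨fun hxt => h1.1 ?_, h1.2⟩
    rw [hxt]
  · refine Or.inr (Or.inl ⟨fun hxt => h1.1 ?_, h1.2⟩)
    rw [hxt]
  · refine Or.inr (Or.inr ⟨k, m, hk, hm, hkm, h1, fun hxt => h2 ?_⟩)
    rw [hxt]

/-- **The list of centralizers.** -/
theorem plist (hn : 4 ≤ n) {r : ℕ} (hr : r.Prime) (hr2 : 2 < r) (hrF : ¬ r ∣ Fintype.card F)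
    (he : orderOf (Fintype.card F : ZMod r) = 2 * (n - 1)) {x : Cfsg.POmega F (Cfsg.quadFormPlus n F)}
    (hx : x ≠ 1) (hrx : r ∣ Nat.card (Subgroup.centralizer ({x} : Set (Cfsg.POmega F (Cfsg.quadFormPlus n F))))) :
    (x ^ r ≠ 1 ∧ ∃ a, (a = 1 ∨ (a = 2 ∧ (2 : F) ≠ 0)) ∧ Nat.gcd 4 (Fintype.card F ^ n - 1) *
        Nat.card (Subgroup.centralizer ({x} : Set (Cfsg.POmega F (Cfsg.quadFormPlus n F)))) =
      Fintype.card F ^ ((n - 1) * (n - 2)) * ((Fintype.card F ^ (n - 1) + 1) *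
        (∏ i ∈ Finset.range (n - 2), (Fintype.card F ^ (2 * (i + 1)) - 1)) * ((Fintype.card F + 1) * a))) ∨
    (x ^ r ≠ 1 ∧ ∃ a, (a = 1 ∨ (a = 2 ∧ (2 : F) ≠ 0 ∧ ¬ IsSquare (-1 : F))) ∧ Nat.gcd 4 (Fintype.card F ^ n - 1) *
        Nat.card (Subgroup.centralizer ({x} : Set (Cfsg.POmega F (Cfsg.quadFormPlus n F)))) =
          a * GU n (Fintype.card F)) ∨
    (∃ k m, 0 < k ∧ 0 < m ∧ k * m = n - 1 ∧ Nat.gcd 4 (Fintype.card F ^ n - 1) *
        Nat.card (Subgroup.centralizer ({x} : Set (Cfsg.POmega F (Cfsg.quadFormPlus n F)))) =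
          GU m (Fintype.card F ^ k) * (Fintype.card F + 1) ∧ (x ^ r = 1 → m = 1)) := by
  revert x
  rw [← coe_quadPlus]
  intro x hx hrx
  have hrf : Fact r.Prime := ⟨hr⟩
  have hodd : Odd r := hr.odd_of_ne_two (by omega)
  have hQ : (polarBilin (quadPlus n F)).Nondegenerate := quadPlus_nondegenerate
  have hs := quadPlus_isotropic (m := n) (F := F) (by omega)
  have hci : 3 ≤ Fintype.card (Fin n ⊕ Fin n) := by rw [card_iota]; omega
  have hZ : ∀ z ∈ Subgroup.center (Cfsg.Omega F ⇑(quadPlus n F)), z ^ 2 = 1 := by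
    intro z hz
    have h1 := (mem_center_omega_iff (quadPlus n F) hQ hci hs z).1 hz
    apply omega_ext
    rw [pow_two]
    change omegaMat z * omegaMat z = 1
    rcases h1 with h1 | h1 <;> rw [h1]
    · rw [one_mul]
    · rw [neg_mul_neg, one_mul]
  by_cases hxr : x ^ r = 1
  · obtain ⟨t, rfl, ht⟩ := exists_lift hZ hodd x hxr
    have hx' : t ∉ Subgroup.center (Cfsg.Omega F ⇑(quadPlus n F)) := fun h => hx ((QuotientGroup.eq_one_iff t).2 h)
    have ht1 : t ≠ 1 := by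
      rintro rfl
      exact hx' (one_mem _)
    rcases plist_aux hn (by omega) hrF he rfl hx' ht ht1 rfl with h1 | h1 | ⟨k, m, hk, hm, hkm, h1, h2⟩
    · exact absurd rfl h1.1
    · exact absurd rfl h1.1
    · exact Or.inr (Or.inr ⟨k, m, hk, hm, hkm, h1, fun _ => h2 rfl⟩)
  · obtain ⟨y, hy⟩ := exists_prime_orderOf_dvd_card' r hrx
    have hyr : (y : Cfsg.POmega F ⇑(quadPlus n F)) ^ r = 1 := by
      rw [← Subgroup.coe_pow, ← hy, pow_orderOf_eq_one, Subgroup.coe_one]
    have hy1 : (y : Cfsg.POmega F ⇑(quadPlus n F)) ≠ 1 := by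
      intro h
      have : y = 1 := Subtype.ext h
      rw [this, orderOf_one] at hy
      exact hr.one_lt.ne hy
    have hyc := Subgroup.mem_centralizer_singleton_iff.1 y.2
    obtain ⟨t, hty, ht⟩ := exists_lift hZ hodd _ hyr
    obtain ⟨x, rfl⟩ := QuotientGroup.mk_surjective x
    have hx' : x ∉ Subgroup.center (Cfsg.Omega F ⇑(quadPlus n F)) := fun h => hx ((QuotientGroup.eq_one_iff x).2 h)
    have ht1 : t ≠ 1 := by
      rintro rfl
      exact hy1 (hty.symm.trans (QuotientGroup.mk_one _))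
    have hc : t * x = x * t := by
      refine comm_of_center hZ hodd ht ?_
      rw [← QuotientGroup.eq_one_iff, QuotientGroup.mk_mul, QuotientGroup.mk_mul, QuotientGroup.mk_mul,
        QuotientGroup.mk_inv, QuotientGroup.mk_inv, hty, hyc, mul_inv_cancel_right, mul_inv_cancel]
    rcases plist_aux hn (by omega) hrF he rfl hx' ht ht1 hc with h1 | h1 | ⟨k, m, hk, hm, hkm, h1, h2⟩
    · exact Or.inl ⟨hxr, h1.2⟩
    · exact Or.inr (Or.inl ⟨hxr, h1.2⟩)
    · exact Or.inr (Or.inr ⟨k, m, hk, hm, hkm, h1, fun h => absurd h hxr⟩)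

end plus

end Cfsg.Agent.H286.CS
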