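import Cfsg.Agent.H286.CS.PCo
import Cfsg.Agent.H79.CS.Tor2

/-!
# The centralizers of the elements of `PΩ⁺(2n,q)` of order `r`, `ord_r(q) = n - 1` odd (helper286, for S3677)
-/

set_option autoImplicit false
set_option linter.unusedSectionVars false

namespace Cfsg.Agent.H286.CS

open Module QuadraticMap Matrix
open Cfsg.Agent.LieClassical.OrthCore Cfsg.Agent.H955
open Cfsg.Agent.ClassicalGeometry.Reflection Cfsg.Agent.ClassicalGeometry.SpinorSign
open Cfsg.Agent.ClassicalGeometry.OrthDickson Cfsg.Agent.ClassicalGeometry.OmegaIndex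
open Cfsg.Agent.LieClassical.OmegaReindex Cfsg.Agent.LieClassical.PomegaCard Cfsg.Agent.LieClassical.OmegaCenter

universe u v

section lin

variable {F : Type u} [Field F] {V : Type v} [AddCommGroup V] [Module F V] [FiniteDimensional F V]
  {Q : QuadraticForm F V}

/-- anticommuting with an element of odd order -/
theorem comm_of_pm {T : V ≃ₗ[F] V} {r : ℕ} (hodd : Odd r) (hTr : T ^ r = 1) {g : V ≃ₗ[F] V}
    (hc : (∀ v, g (T v) = T (g v)) ∨ ∀ v, g (T v) = - T (g v)) : ∀ v, g (T v) = T (g v) := by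
  rcases hc with hc | hc
  · exact hc
  by_cases h2 : (2 : F) = 0
  · intro v
    rw [hc, neg_eq_self h2]
  · have h3 : ∀ (k : ℕ) (v : V), g ((T ^ (2 * k)) v) = (T ^ (2 * k)) (g v) := by
      intro k
      induction k with
      | zero => intro v; rfl
      | succ k ih =>
        intro v
        have h4 : g (T (T v)) = T (T (g v)) := by rw [hc, hc, map_neg, neg_neg]
        rw [mul_add, mul_one, pow_add, LinearEquiv.mul_apply, pow_two, LinearEquiv.mul_apply, ih, h4]
        rfl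
    obtain ⟨k, hk⟩ := hodd
    have key : ∀ v, g v = 0 := by
      intro v
      by_contra hv
      have h4 : (T ^ r) v = v := by rw [hTr]; rfl
      have h5 : (T ^ r) (g v) = g v := by rw [hTr]; rfl
      have h6 : g ((T ^ r) v) = - (T ^ r) (g v) := by
        rw [hk, pow_succ, LinearEquiv.mul_apply, LinearEquiv.mul_apply, h3, hc, map_neg]
      rw [h4, h5] at h6
      exact neg_ne_of_ne h2 hv h6
    intro v
    rw [key, key, map_zero]

/-- a reflection in a fixed vector -/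
theorem refl_comm_of_fix {T : V ≃ₗ[F] V} (hT : T ∈ O Q) {x : V} (hx : Q x ≠ 0) (hTx : T x = x) (v : V) :
    refl Q x hx (T v) = T (refl Q x hx v) := by
  have h1 : polar Q x (T v) = polar Q x v := by
    have := polar_map hT x v
    rwa [hTx] at this
  rw [refl_apply, refl_apply, map_sub, map_smul, hTx, h1]

end lin

section main

variable {F : Type u} [Field F] [Finite F] {V : Type v} [AddCommGroup V] [Module F V] [FiniteDimensional F V]
  {Q : QuadraticForm F V}

/-- the commutator space and the fixed space of an isometry of order `r`, `e(r,q) = n - 1` odd. -/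
theorem splitT (hQ : Nondeg Q) {n : ℕ} (hn : 3 ≤ n) (hev : Even n) (hd : finrank F V = 2 * n) (hP : IsPlus Q)
    {r : ℕ} [hr : Fact r.Prime] (hr2 : 2 < r) (hrF : ¬ r ∣ Nat.card F)
    (he : orderOf (Nat.card F : ZMod r) = n - 1) {T : V ≃ₗ[F] V} (hT : T ∈ O Q) (hTr : T ^ r = 1) (hT1 : T ≠ 1) :
    Nondeg (res Q (comS T)) ∧ finrank F (comS T) = 2 * (n - 1) ∧ finrank F (perp Q (comS T)) = 2 ∧
      IsPlus (res Q (perp Q (comS T))) := by
  have hodd : Odd (n - 1) := by
    obtain ⟨k, hk⟩ := hev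
    exact ⟨k - 1, by omega⟩
  have hcc : cc (Nat.card F) r = 2 * (n - 1) := by rw [cc, he, if_neg (Nat.not_even_iff_odd.2 hodd)]
  obtain ⟨hnd, t, ht, htp⟩ := blocks_of_comS hQ hT hr2 hrF hTr
  rw [hcc] at ht
  rw [he] at htp
  have h1 : finrank F (comS T) ≤ finrank F V := Submodule.finrank_le _
  have h0 : comS T ≠ ⊥ := by
    intro h
    apply hT1
    apply LinearEquiv.ext
    intro v
    have h4 := sub_mem_comS T v
    rw [h, Submodule.mem_bot, sub_eq_zero] at h4
    exact h4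
  have h4 : 0 < finrank F (comS T) := by
    rw [Nat.pos_iff_ne_zero]
    intro h
    exact h0 (Submodule.finrank_eq_zero.1 h)
  have ht1 : t = 1 := by
    have h5 : t ≠ 0 := by
      rintro rfl
      rw [mul_zero] at ht
      omega
    have h6 : t < 2 := by
      by_contra hlt
      push Not at hlt
      have : 2 * (n - 1) * 2 ≤ 2 * (n - 1) * t := Nat.mul_le_mul_left _ hlt
      omega
    omega
  subst ht1
  rw [mul_one] at ht
  have hd2 : finrank F (perp Q (comS T)) = 2 := by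
    have := finrank_add_perp hQ (comS T)
    omega
  have hpl : IsPlus (res Q (comS T)) := htp.2 (Or.inl hodd)
  have h5 := (isPlus_iff_perp hQ hnd (by rw [hd]; exact even_two_mul _) (by rw [ht]; exact even_two_mul _)).1 hP
  exact ⟨hnd, ht, hd2, h5.1 hpl⟩

/-- the isometries of `[V, T]` commuting with `T` -/
theorem card_left (hQ : Nondeg Q) {n : ℕ} (hn : 3 ≤ n) (hev : Even n) (hd : finrank F V = 2 * n) (hP : IsPlus Q)
    {r : ℕ} [hr : Fact r.Prime] (hr2 : 2 < r) (hrF : ¬ r ∣ Nat.card F)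
    (he : orderOf (Nat.card F : ZMod r) = n - 1) {T : V ≃ₗ[F] V} (hT : T ∈ O Q) (hTr : T ^ r = 1) (hT1 : T ≠ 1) :
    Nat.card {g : comS T ≃ₗ[F] comS T // g ∈ O (res Q (comS T)) ∧
      ∀ a, g (resT T (comS T) (inv_comS T) a) = resT T (comS T) (inv_comS T) (g a)} = Nat.card F ^ (n - 1) - 1 := by
  obtain ⟨hnd, hdW, hdU, hpl⟩ := splitT hQ hn hev hd hP hr2 hrF he hT hTr hT1
  have hfF := Fintype.ofFinite F
  have hrF' : (r : F) ≠ 0 := natCast_ne_zero_of_not_dvd hrF
  have hcF : Nat.card F = Fintype.card F := Nat.card_eq_fintype_card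
  have he' : orderOf (Fintype.card F : ZMod r) = n - 1 := by rw [← hcF]; exact he
  have hodd : Odd (n - 1) := by
    obtain ⟨k, hk⟩ := hev
    exact ⟨k - 1, by omega⟩
  have hpow : ∀ (i : ℕ) (v : V), (((T : Module.End F V) ^ i) v) = (T ^ i) v := by
    intro i
    induction i with
    | zero => intro v; rfl
    | succ i ih =>
      intro v
      rw [pow_succ, Module.End.mul_apply, pow_succ, LinearEquiv.mul_apply]
      exact ih _
  have H : Cfsg.Agent.H79.CS.Hyp (fun u v => polar Q u v) (T : Module.End F V) (comS T) r := by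
    refine ⟨?_, by omega, hrF', by rw [he']; exact hodd, by rw [he']; exact hdW, fun u v => polar_map hT u v, ?_,
      inv_comS T, ?_, ?_⟩
    · intro u hu hu0
      by_contra hcon
      push Not at hcon
      exact hu0 (nondeg_res_iff.1 hnd u hu hcon)
    · ext v
      rw [hpow, hTr]
      rfl
    · rw [eq_bot_iff]
      rintro v ⟨hv1, hv2⟩
      exact (Submodule.mem_bot F).2 (free_comS hrF' hTr v hv1 (Cfsg.Agent.H951.mem_fx.1 hv2))
    · intro W' hW' hi hnd'
      have hndr : Nondeg (res Q W') := by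
        rw [nondeg_res_iff]
        intro x hx hxy
        by_contra hx0
        obtain ⟨v, hv, hv'⟩ := hnd' x hx hx0
        exact hv' (hxy v hv)
      obtain ⟨t, ht, -⟩ := blocks_of_inv hT hr2 hrF hTr (W := W') hi hndr
        (fun w hw => free_comS hrF' hTr w (hW' hw))
      rw [ht, cc, he, if_neg (Nat.not_even_iff_odd.2 hodd), mul_assoc]
      exact even_two_mul _
  have h1 := H.card_self (frm_polar Q)
  rw [he'] at h1
  rw [← h1]
  refine Nat.card_congr (Equiv.subtypeEquivRight fun g => ?_)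
  constructor
  · rintro ⟨h2, h3⟩
    exact ⟨fun u v => polar_map h2 u v, fun v => h3 v⟩
  · rintro ⟨h2, h3⟩
    refine ⟨mem_O_of_comm (X := resT T (comS T) (inv_comS T)) (resT_mem_O hT (inv_comS T))
      (fun v hv => Subtype.ext (free_comS hrF' hTr v v.2 (congrArg Subtype.val hv))) h2 (fun v => h3 v),
      fun v => h3 v⟩

/-- **the number of even isometries commuting with `T` up to sign** -/
theorem card_KK_T (hQ : Nondeg Q) (hD : Mult Q) {n : ℕ} (hn : 3 ≤ n) (hev : Even n) (hd : finrank F V = 2 * n)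
    (hP : IsPlus Q)
    {r : ℕ} [hr : Fact r.Prime] (hr2 : 2 < r) (hrF : ¬ r ∣ Nat.card F)
    (he : orderOf (Nat.card F : ZMod r) = n - 1) {T : V ≃ₗ[F] V} (hT : T ∈ O Q) (hTr : T ^ r = 1) (hT1 : T ≠ 1) :
    Nat.card (KK Q T) = (Nat.card F ^ (n - 1) - 1) * (Nat.card F - 1) := by
  classical
  obtain ⟨hnd, hdW, hdU, hpl⟩ := splitT hQ hn hev hd hP hr2 hrF he hT hTr hT1
  have hfin : Finite V := Module.finite_of_finite F
  have hfinV : Finite (V ≃ₗ[F] V) := Finite.of_injective (fun g : V ≃ₗ[F] V => (g : V → V)) DFunLike.coe_injective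
  have hrF' : (r : F) ≠ 0 := natCast_ne_zero_of_not_dvd hrF
  have hR := nondeg_perp hQ hnd
  have hodd : Odd r := hr.out.odd_of_ne_two (by omega)
  set w := resT T (comS T) (inv_comS T) with hw
  have hTg : ∀ v, glue hnd (w, 1) v = T v := by
    intro v
    obtain ⟨a, b, rfl⟩ := exists_add_perp hnd v
    have hb : T (b : V) = b := mem_fixS.1 (by rw [← perp_comS hQ hT]; exact b.2)
    rw [glue_apply, map_add, hb]
    rfl
  -- the group
  let G : Subgroup (V ≃ₗ[F] V) :=
    { carrier := {g | g ∈ O Q ∧ ∀ u, g (T u) = T (g u)}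
      mul_mem' := by
        rintro a b ⟨ha1, ha2⟩ ⟨hb1, hb2⟩
        refine ⟨mul_mem ha1 hb1, fun u => ?_⟩
        change a (b (T u)) = T (a (b u))
        rw [hb2, ha2]
      one_mem' := ⟨one_mem _, fun u => rfl⟩
      inv_mem' := by
        rintro a ⟨ha1, ha2⟩
        refine ⟨inv_mem ha1, fun u => ?_⟩
        change a.symm (T u) = T (a.symm u)
        rw [LinearEquiv.symm_apply_eq, ha2, LinearEquiv.apply_symm_apply] }
  have hGcard : Nat.card G = (Nat.card F ^ (n - 1) - 1) * (2 * (Nat.card F - 1)) := by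
    have hO : Nat.card (O (res Q (perp Q (comS T)))) = 2 * (Nat.card F - 1) := by
      rw [card_O_of_isPlus hR (m := 1) le_rfl (by rw [hdU]) hpl]
      simp
    rw [← card_left hQ hn hev hd hP hr2 hrF he hT hTr hT1, ← hO, ← Nat.card_prod]
    let φ : {g : comS T ≃ₗ[F] comS T // g ∈ O (res Q (comS T)) ∧
        ∀ a, g (resT T (comS T) (inv_comS T) a) = resT T (comS T) (inv_comS T) (g a)} ×
          O (res Q (perp Q (comS T))) → G := fun p =>
      ⟨glue hnd (p.1.1, p.2.1), (glue_mem_O hnd).2 ⟨p.1.2.1, p.2.2⟩, fun v => by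
        have h1 := (glue_comm (w := w) (B := 1) (g₁ := p.1.1) (g₂ := p.2.1) hnd).2 ⟨p.1.2.2, fun b => rfl⟩ v
        rwa [hTg, hTg] at h1⟩
    symm
    apply Nat.card_eq_of_bijective φ
    constructor
    · rintro ⟨⟨g1, hg1⟩, ⟨g2, hg2⟩⟩ ⟨⟨h1, hh1⟩, ⟨h2, hh2⟩⟩ hgh
      have h3 := glue_injective hnd (congrArg Subtype.val hgh)
      have e1 : g1 = h1 := congrArg Prod.fst h3
      have e2 : g2 = h2 := congrArg Prod.snd h3
      subst e1 e2
      rfl
    · rintro ⟨g, hg⟩
      obtain ⟨g₁, g₂, rfl⟩ := exists_glue hnd hg.1 (by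
        intro a ha
        obtain ⟨v, rfl⟩ := mem_comS.1 ha
        rw [map_sub, hg.2]
        exact sub_mem_comS T _)
      have hO := (glue_mem_O hnd).1 hg.1
      have hc : ∀ v, glue hnd (g₁, g₂) (glue hnd (w, 1) v) = glue hnd (w, 1) (glue hnd (g₁, g₂) v) := by
        intro v
        rw [hTg, hTg]
        exact hg.2 v
      exact ⟨⟨⟨g₁, hO.1, ((glue_comm hnd).1 hc).1⟩, ⟨g₂, hO.2⟩⟩, rfl⟩
  -- a reflection
  obtain ⟨y, hy⟩ := exists_eq_one hR (m := 1) one_pos (by rw [hdU])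
  have hy' : Q (y : V) ≠ 0 := by
    have : res Q (perp Q (comS T)) y ≠ 0 := by rw [hy]; exact one_ne_zero
    exact this
  have hyf : T (y : V) = y := mem_fixS.1 (by rw [← perp_comS hQ hT]; exact y.2)
  have hhalf := card_half (G := G) (fun g => ev g.1) (by
    rintro ⟨g1, h1⟩ ⟨g2, h2⟩
    exact hD _ h1.1 _ h2.1) ⟨⟨refl Q (y : V) hy', refl_mem_O hy', refl_comm_of_fix hT hy' hyf⟩,
      not_ev_refl hQ (by rw [hd]; exact even_two_mul _) hy'⟩
  have hKK : Nat.card {g : G // ev g.1} = Nat.card (KK Q T) := by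
    refine Nat.card_congr ⟨fun g => ⟨g.1.1, g.1.2.1, g.2, Or.inl g.1.2.2⟩,
      fun g => ⟨⟨g.1, g.2.1, comm_of_pm hodd hTr g.2.2.2⟩, g.2.2.1⟩, fun g => rfl, fun g => rfl⟩
  rw [hKK, hGcard] at hhalf
  have h2 : 2 * ((Nat.card F ^ (n - 1) - 1) * (Nat.card F - 1)) = 2 * Nat.card (KK Q T) := by
    rw [← hhalf]
    ring
  exact (Nat.eq_of_mul_eq_mul_left two_pos h2).symm

/-- **The rotation of non-square spinor norm** -/
theorem exists_rotT (hQ : Nondeg Q) {n : ℕ} (hn : 3 ≤ n) (hev : Even n) (hd : finrank F V = 2 * n) (hP : IsPlus Q)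
    {r : ℕ} [hr : Fact r.Prime] (hr2 : 2 < r) (hrF : ¬ r ∣ Nat.card F)
    (he : orderOf (Nat.card F : ZMod r) = n - 1) {T : V ≃ₗ[F] V} (hT : T ∈ O Q) (hTr : T ^ r = 1) (hT1 : T ≠ 1)
    {c : F} (hc0 : c ≠ 0) :
    ∃ (u u' : V) (hu : Q u ≠ 0) (hu' : Q u' ≠ 0), Q u = 1 ∧ Q u' = c ∧
      ∀ v, refl Q u hu (refl Q u' hu' (T v)) = T (refl Q u hu (refl Q u' hu' v)) := by
  obtain ⟨hnd, hdW, hdU, hpl⟩ := splitT hQ hn hev hd hP hr2 hrF he hT hTr hT1
  have hR := nondeg_perp hQ hnd
  obtain ⟨u, hu⟩ := nondeg_of_aniso_ex hR hdU (1 : F) one_ne_zero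
  obtain ⟨u', hu'⟩ := nondeg_of_aniso_ex hR hdU c hc0
  have hu1 : Q (u : V) = 1 := hu
  have hu1' : Q (u' : V) = c := hu'
  have hu0 : Q (u : V) ≠ 0 := by rw [hu1]; exact one_ne_zero
  have hu0' : Q (u' : V) ≠ 0 := by rw [hu1']; exact hc0
  have huf : T (u : V) = u := mem_fixS.1 (by rw [← perp_comS hQ hT]; exact u.2)
  have huf' : T (u' : V) = u' := mem_fixS.1 (by rw [← perp_comS hQ hT]; exact u'.2)
  refine ⟨u, u', hu0, hu0', hu1, hu1', fun v => ?_⟩
  rw [refl_comm_of_fix hT hu0' huf', refl_comm_of_fix hT hu0 huf]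

end main

section plus

variable {F : Type u} [Field F] [Fintype F] {n : ℕ}

/-- the elements of order `r`, `e(r,q) = n - 1` odd -/
theorem ptor_aux (hn : 4 ≤ n) (hne : Even n) {r : ℕ} [hr : Fact r.Prime] (hr2 : 2 < r) (hrF : ¬ r ∣ Fintype.card F)
    (he : orderOf (Fintype.card F : ZMod r) = n - 1) {Q : QuadraticForm F (Fin n ⊕ Fin n → F)}
    (hQe : Q = quadPlus n F) {t : Cfsg.Omega F ⇑Q} (ht : t ^ r = 1) (ht1 : t ≠ 1) :
    Nat.gcd 4 (Fintype.card F ^ n - 1) *
        Nat.card (Subgroup.centralizer ({(t : Cfsg.POmega F ⇑Q)} : Set (Cfsg.POmega F ⇑Q))) =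
      (Fintype.card F ^ (n - 1) - 1) * (Fintype.card F - 1) := by
  have hQ : (polarBilin Q).Nondegenerate := by rw [hQe]; exact quadPlus_nondegenerate
  have hs : ∃ u, u ≠ 0 ∧ Q u = 0 := by rw [hQe]; exact quadPlus_isotropic (by omega)
  have hci : 3 ≤ Fintype.card (Fin n ⊕ Fin n) := by rw [card_iota]; omega
  have h : (∃ θ : F, θ ≠ 0 ∧ θ ≠ 1) ∨ Fintype.card (Fin n ⊕ Fin n) ≠ 4 := Or.inr (by rw [card_iota]; omega)
  have hev : Even (Fintype.card (Fin n ⊕ Fin n)) := by rw [card_iota]; exact even_two_mul _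
  have hND : Nondeg Q := by rw [hQe]; exact nondeg_quadPlus
  have hP : IsPlus Q := by rw [hQe]; exact isPlus_quadPlus
  have hfin : finrank F (Fin n ⊕ Fin n → F) = 2 * n := finrank_quadPlus
  have hM : Mult Q := mult_lin _ hQ h hev
  have hcF : Nat.card F = Fintype.card F := Nat.card_eq_fintype_card
  have hrF' : ¬ r ∣ Nat.card F := by rw [hcF]; exact hrF
  have he' : orderOf (Nat.card F : ZMod r) = n - 1 := by rw [hcF]; exact he
  have hTr : (lin Q (t : Cfsg.isometryGroup F ⇑Q)) ^ r = 1 := by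
    rw [← map_pow, ← Subgroup.coe_pow, ht, Subgroup.coe_one, map_one]
  have hT1 : lin Q (t : Cfsg.isometryGroup F ⇑Q) ≠ 1 := by
    intro h1
    apply ht1
    apply Subtype.ext
    apply lin_injective Q
    rw [h1, Subgroup.coe_one, map_one]
  have hX := lin_mem_O Q (t : Cfsg.isometryGroup F ⇑Q)
  have hcent : Nat.gcd 4 (Fintype.card F ^ n - 1) *
      Nat.card (Subgroup.centralizer ({(t : Cfsg.POmega F ⇑Q)} : Set (Cfsg.POmega F ⇑Q))) =
        Nat.card (KK Q (lin Q (t : Cfsg.isometryGroup F ⇑Q))) := by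
    obtain ⟨j, hj0, hj2⟩ : ∃ j : ℕ, ((2 : F) = 0 → j = 1) ∧ ((2 : F) ≠ 0 → j = 2) := by
      by_cases h2 : (2 : F) = 0
      · exact ⟨1, fun _ => rfl, fun h3 => absurd h2 h3⟩
      · exact ⟨2, fun h3 => absurd h3 h2, fun _ => rfl⟩
    have hcm := card_center_mul (F := F) hn hj0 hj2
    rw [← hQe] at hcm
    rw [← hcm, ← card_KX_eq hev hQ h, ← card_cent_mul hQ h hci hs t ?_ hj0 hj2, mul_comm]
    intro h2
    refine exists_b h2 hQ h fun c hc0 => ?_
    exact exists_rotT hND (by omega) hne hfin hP hr2 hrF' he' hX hTr hT1 hc0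
  rw [hcent, ← hcF]
  exact card_KK_T hND hM (by omega) hne hfin hP hr2 hrF' he' hX hTr hT1

/-- **the elements of order `r`, `e(r,q) = n - 1` odd** -/
theorem ptor (hn : 4 ≤ n) (hne : Even n) {r : ℕ} (hr : r.Prime)
    (he : orderOf (Fintype.card F : ZMod r) = n - 1) {x : Cfsg.POmega F (Cfsg.quadFormPlus n F)}
    (hx : orderOf x = r) :
    Nat.gcd 4 (Fintype.card F ^ n - 1) *
        Nat.card (Subgroup.centralizer ({x} : Set (Cfsg.POmega F (Cfsg.quadFormPlus n F)))) =
      (Fintype.card F ^ (n - 1) - 1) * (Fintype.card F - 1) := by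
  revert x
  rw [← coe_quadPlus]
  intro x hx
  have hrf : Fact r.Prime := ⟨hr⟩
  have h0 : (Fintype.card F : ZMod r) ≠ 0 := by
    intro h
    rw [h, orderOf_eq_zero_iff'.2 (fun k hk => by rw [zero_pow (by omega)]; exact zero_ne_one)] at he
    omega
  have hrF : ¬ r ∣ Fintype.card F := fun h => h0 ((ZMod.natCast_eq_zero_iff _ _).2 h)
  have h1 := ZMod.orderOf_dvd_card_sub_one h0
  rw [he] at h1
  have h2 := Nat.le_of_dvd (by have := hr.two_le; omega) h1
  have hodd : Odd r := hr.odd_of_ne_two (by omega)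
  have hQ : (polarBilin (quadPlus n F)).Nondegenerate := quadPlus_nondegenerate
  have hs := quadPlus_isotropic (m := n) (F := F) (by omega)
  have hci : 3 ≤ Fintype.card (Fin n ⊕ Fin n) := by rw [card_iota]; omega
  have hZ : ∀ z ∈ Subgroup.center (Cfsg.Omega F ⇑(quadPlus n F)), z ^ 2 = 1 := by
    intro z hz
    have h1 := (mem_center_omega_iff (quadPlus n F) hQ hci hs z).1 hz
    apply omega_ext
    rw [pow_two]
    change omegaMat z * omegaMat z = 1
    rcases h1 with h1 | h1 <;> rw [h1]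
    · rw [one_mul]
    · rw [neg_mul_neg, one_mul]
  have hxr : x ^ r = 1 := by rw [← hx]; exact pow_orderOf_eq_one x
  obtain ⟨t, rfl, ht⟩ := exists_lift hZ hodd x hxr
  have ht1 : t ≠ 1 := by
    rintro rfl
    rw [QuotientGroup.mk_one, orderOf_one] at hx
    exact hr.one_lt.ne hx
  exact ptor_aux hn hne (by omega) hrF he rfl ht ht1

end plus

/-- **S3677, P1**: no prime divides all the centralizer orders -/
theorem co_coprime {F : Type v} [Field F] [Fintype F] {n : ℕ} (hn : 4 ≤ n) (hev : Even n) :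
    ∀ t : ℕ, t.Prime → ∃ c ∈ Cfsg.Agent.H370.AAM.Co (Cfsg.POmega F (Cfsg.quadFormPlus n F)), ¬ t ∣ c :=
  co_coprime_of hn hev fun _ hr ho _ hy => ptor hn hev hr ho hy

end Cfsg.Agent.H286.CS
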