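import Cfsg.Agent.H286.CS.Lin
import Cfsg.Agent.H955.JSkew

/-!
# Anisotropic planes over finite fields (helper286, for S3677)

`ev` elements of `O(U)` commute, there are `q + 1` of them; `ev B`, `B ≠ ± 1`: irreducible, centralizer of order `q + 1`.
-/

set_option autoImplicit false
set_option linter.unusedSectionVars false

namespace Cfsg.Agent.H286.CS

open Module QuadraticMap Polynomial
open Cfsg.Agent.LieClassical.OrthCore Cfsg.Agent.H955

universe u v

section gen

variable {F : Type u} [Field F] {V : Type v} [AddCommGroup V] [Module F V] {Q : QuadraticForm F V}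

theorem neg_mem_O : (LinearEquiv.neg F : V ≃ₗ[F] V) ∈ O Q := fun v => by
  change Q (-v) = Q v
  exact QuadraticMap.map_neg Q v

theorem ev_neg [FiniteDimensional F V] (hd : Even (finrank F V)) : ev (LinearEquiv.neg F : V ≃ₗ[F] V) := by
  by_cases h2 : (2 : F) = 0
  · have : (LinearEquiv.neg F : V ≃ₗ[F] V) = 1 := by
      apply LinearEquiv.ext
      intro v
      change -v = v
      have h3 : (2 : F) • v = 0 := by rw [h2, zero_smul]
      rw [two_smul] at h3
      exact neg_eq_of_add_eq_zero_left h3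
    rw [this]
    exact ev_one hd
  · apply ev_of_free
    intro v hv
    have h3 : (2 : F) • v = 0 := by
      rw [two_smul]
      nth_rewrite 1 [← hv]
      exact neg_add_cancel v
    exact (smul_eq_zero.1 h3).resolve_left h2

theorem neg_ne_of_ne (h2 : (2 : F) ≠ 0) {v : V} (hv : v ≠ 0) : v ≠ -v := by
  intro h
  have h3 : (2 : F) • v = 0 := by
    rw [two_smul]
    nth_rewrite 1 [h]
    exact neg_add_cancel v
  exact hv ((smul_eq_zero.1 h3).resolve_left h2)

end gen

section plane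

variable {F : Type u} [Field F] {U : Type v} [AddCommGroup U] [Module F U] [FiniteDimensional F U]
  {R : QuadraticForm F U}

theorem eq_one_of_ev (hd : finrank F U = 2) {B : U ≃ₗ[F] U} (hev : ev B) {u : U} (hu : u ≠ 0) (h : B u = u) :
    B = 1 := by
  have h1 : fixS B ≠ ⊥ := by
    intro h2
    apply hu
    rw [← Submodule.mem_bot F, ← h2]
    exact mem_fixS.2 h
  have h2 : 0 < finrank F (fixS B) := Nat.pos_of_ne_zero fun h3 => h1 (Submodule.finrank_eq_zero.1 h3)
  have h3 := Submodule.finrank_le (fixS B)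
  obtain ⟨k, hk⟩ := hev
  have h4 : fixS B = ⊤ := Submodule.eq_top_of_finrank_eq (by omega)
  apply LinearEquiv.ext
  intro v
  have : v ∈ fixS B := by rw [h4]; trivial
  exact mem_fixS.1 this

theorem eq_neg_of_ev (hD : Mult R) (hd : finrank F U = 2) {B : U ≃ₗ[F] U} (hB : B ∈ O R) (hev : ev B) {u : U}
    (hu : u ≠ 0) (h : B u = -u) (v : U) : B v = -v := by
  have h1 : ev ((LinearEquiv.neg F : U ≃ₗ[F] U) * B) :=
    (hD _ neg_mem_O _ hB).2 ⟨fun _ => hev, fun _ => ev_neg (by rw [hd]; exact even_two)⟩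
  have h2 : ((LinearEquiv.neg F : U ≃ₗ[F] U) * B) u = u := by
    change -(B u) = u
    rw [h, neg_neg]
  have h3 := eq_one_of_ev hd h1 hu h2
  have h4 : -(B v) = v := LinearEquiv.congr_fun h3 v
  rw [← h4, neg_neg, h4]

theorem no_eigen (hD : Mult R) (hd : finrank F U = 2) (han : ∀ u, R u = 0 → u = 0) {B : U ≃ₗ[F] U} (hB : B ∈ O R)
    (hev : ev B) (h1 : B ≠ 1) (h2 : ∃ v, B v ≠ -v) {u : U} (hu : u ≠ 0) (c : F) : B u ≠ c • u := by
  intro h
  have h3 : R (B u) = R u := hB u
  rw [h, QuadraticMap.map_smul, smul_eq_mul] at h3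
  have h4 : R u ≠ 0 := fun h5 => hu (han u h5)
  have h5 : (c - 1) * (c + 1) = 0 := by
    apply mul_right_cancel₀ h4
    linear_combination h3
  rcases mul_eq_zero.1 h5 with h6 | h6
  · rw [sub_eq_zero] at h6
    rw [h6, one_smul] at h
    exact h1 (eq_one_of_ev hd hev hu h)
  · have h7 : c = -1 := by linear_combination h6
    rw [h7, neg_one_smul] at h
    obtain ⟨v, hv⟩ := h2
    exact hv (eq_neg_of_ev hD hd hB hev hu h v)

theorem plane_irr (hd : finrank F U = 2) {B : U ≃ₗ[F] U} (hno : ∀ u : U, u ≠ 0 → ∀ c : F, B u ≠ c • u)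
    (M : Submodule F U) (hM : ∀ w ∈ M, B w ∈ M) : M = ⊥ ∨ M = ⊤ := by
  have h3 := Submodule.finrank_le M
  rw [hd] at h3
  rcases (show finrank F M = 0 ∨ finrank F M = 1 ∨ finrank F M = 2 by omega) with h | h | h
  · exact Or.inl (Submodule.finrank_eq_zero.1 h)
  · exfalso
    obtain ⟨⟨u, hu⟩, hu0, hall⟩ := finrank_eq_one_iff'.1 h
    obtain ⟨c, hc⟩ := hall ⟨B u, hM u hu⟩
    refine hno u (fun h4 => hu0 (Subtype.ext h4)) c ?_
    exact (congrArg Subtype.val hc).symm
  · exact Or.inr (Submodule.eq_top_of_finrank_eq (by rw [h, hd]))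

theorem plane_dich (hd : finrank F U = 2) {B : U ≃ₗ[F] U} (hno : ∀ u : U, u ≠ 0 → ∀ c : F, B u ≠ c • u)
    (P : F[X]) : aeval (B : Module.End F U) P = 0 ∨ Function.Injective (aeval (B : Module.End F U) P) :=
  dich (A := (B : Module.End F U)) (T := (B : Module.End F U)) (fun _ => rfl) (plane_irr hd hno) P

theorem sq_ne_one (hd : finrank F U = 2) {B : U ≃ₗ[F] U} (hno : ∀ u : U, u ≠ 0 → ∀ c : F, B u ≠ c • u) :
    ∃ v, B (B v) ≠ v := by
  by_contra hcon
  push Not at hcon
  have hnt : Nontrivial U := Module.nontrivial_of_finrank_pos (R := F) (by omega)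
  obtain ⟨v, hv⟩ := exists_ne (0 : U)
  by_cases h : B v + v = 0
  · apply hno v hv (-1)
    rw [neg_one_smul]
    exact eq_neg_of_add_eq_zero_left h
  · apply hno _ h 1
    rw [map_add, hcon, one_smul, add_comm]

variable [Finite F]

/-- irreducible elements -/
theorem plane_minpoly (hR : Nondeg R) (hd : finrank F U = 2) {B : U ≃ₗ[F] U} (hB : B ∈ O R)
    (hno : ∀ u : U, u ≠ 0 → ∀ c : F, B u ≠ c • u) :
    Irreducible (minpoly F (B : Module.End F U)) ∧ (minpoly F (B : Module.End F U)).natDegree = 2 ∧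
      Nat.card {g : U ≃ₗ[F] U // g ∈ O R ∧ ∀ v, g (B v) = B (g v)} = Nat.card F + 1 := by
  have hnt : Nontrivial U := Module.nontrivial_of_finrank_pos (R := F) (by omega)
  have hirr := irr_minpoly (plane_dich hd hno)
  obtain ⟨k, m, hk, hm, hkm, hdeg, hcard⟩ := Cfsg.Agent.H510.CS.card_cent (frm_polar R) (nd_polar hR)
    (Or.inl rfl) (fun u v => polar_map hB u v) hirr (sq_ne_one hd hno)
  rw [hd] at hkm
  have hkm1 : k * m = 1 := by
    have : 2 * k * m = 2 * (k * m) := by ring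
    omega
  have hk1 : k = 1 := Nat.eq_one_of_mul_eq_one_right hkm1
  have hm1 : m = 1 := Nat.eq_one_of_mul_eq_one_left hkm1
  subst hk1 hm1
  refine ⟨hirr, hdeg, ?_⟩
  rw [pow_one] at hcard
  have h1 : Nat.card {g : U ≃ₗ[F] U // g ∈ O R ∧ ∀ v, g (B v) = B (g v)} =
      Nat.card {g : U ≃ₗ[F] U // (∀ u v, polar R (g u) (g v) = polar R u v) ∧ ∀ v, g (B v) = B (g v)} := by
    refine Nat.card_congr (Equiv.subtypeEquivRight fun g => ?_)
    constructor
    · rintro ⟨h1, h2⟩
      exact ⟨fun u v => polar_map h1 u v, h2⟩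
    · rintro ⟨h1, h2⟩
      refine ⟨mem_O_of_comm hB (fun v hv => ?_) h1 h2, h2⟩
      by_contra hv0
      exact hno v hv0 1 (by rw [one_smul]; exact hv)
  rw [h1, hcard]
  simp

theorem not_isPlus_of_aniso (hd : finrank F U = 2) (han : ∀ u, R u = 0 → u = 0) : ¬ IsPlus R := by
  rintro ⟨M, hM, hMd⟩
  rw [hd] at hMd
  obtain ⟨x, hx, hx0⟩ := exists_ne_zero_of_finrank_pos (U := M) (by omega)
  exact hx0 (han x (hM x hx))

theorem nondeg_of_aniso_ex (hR : Nondeg R) (hd : finrank F U = 2) (c : F) (hc : c ≠ 0) : ∃ u, R u = c := by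
  have h1 : Nondeg (c⁻¹ • R) := by
    intro x hx
    apply hR x
    intro y
    have := hx y
    rw [QuadraticMap.coeFn_smul, QuadraticMap.polar_smul] at this
    exact (smul_eq_zero.1 this).resolve_left (inv_ne_zero hc)
  obtain ⟨u, hu⟩ := exists_eq_one h1 (m := 1) one_pos (by rw [hd])
  refine ⟨u, ?_⟩
  rw [QuadraticMap.smul_apply, smul_eq_mul] at hu
  field_simp at hu
  exact hu

theorem card_O_plane (hR : Nondeg R) (hd : finrank F U = 2) (han : ∀ u, R u = 0 → u = 0) :
    Nat.card (O R) = 2 * (Nat.card F + 1) := by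
  rw [card_O_of_not_isPlus hR (m := 1) (by rw [hd]) (not_isPlus_of_aniso hd han)]
  simp

theorem card_SO_plane (hR : Nondeg R) (hD : Mult R) (hd : finrank F U = 2) (han : ∀ u, R u = 0 → u = 0) :
    Nat.card {g : U ≃ₗ[F] U // g ∈ O R ∧ ev g} = Nat.card F + 1 := by
  have hfin : Finite U := Module.finite_of_finite F
  have hfin2 : Finite (U ≃ₗ[F] U) := Finite.of_injective (fun g : U ≃ₗ[F] U => (g : U → U)) DFunLike.coe_injective
  obtain ⟨u, hu⟩ := nondeg_of_aniso_ex hR hd (1 : F) one_ne_zero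
  have hu' : R u ≠ 0 := by rw [hu]; exact one_ne_zero
  have h1 := card_half (G := O R) (fun g => ev g.1) (fun g h => hD _ g.2 _ h.2)
    ⟨⟨refl R u hu', refl_mem_O hu'⟩, not_ev_refl hR (by rw [hd]; exact even_two) hu'⟩
  rw [card_O_plane hR hd han] at h1
  have h2 : Nat.card {g : O R // ev g.1} = Nat.card {g : U ≃ₗ[F] U // g ∈ O R ∧ ev g} :=
    Nat.card_congr ⟨fun g => ⟨g.1.1, g.1.2, g.2⟩, fun g => ⟨⟨g.1, g.2.1⟩, g.2.2⟩, fun _ => rfl, fun _ => rfl⟩
  omega

/-- the even isometries of an anisotropic plane commute -/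
theorem plane_comm (hR : Nondeg R) (hD : Mult R) (hd : finrank F U = 2) (han : ∀ u, R u = 0 → u = 0)
    {B β : U ≃ₗ[F] U} (hB : B ∈ O R) (hev : ev B) (hβ : β ∈ O R) (hβev : ev β) (v : U) : β (B v) = B (β v) := by
  by_cases h1 : B = 1
  · rw [h1]; rfl
  by_cases h2 : ∃ v, B v ≠ -v
  · have hfin : Finite U := Module.finite_of_finite F
    have hfin2 : Finite (U ≃ₗ[F] U) := Finite.of_injective (fun g : U ≃ₗ[F] U => (g : U → U)) DFunLike.coe_injective
    have hno : ∀ u : U, u ≠ 0 → ∀ c : F, B u ≠ c • u := fun u hu c => no_eigen hD hd han hB hev h1 h2 hu c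
    obtain ⟨hirr, hdeg, hcard⟩ := plane_minpoly hR hd hB hno
    have hcard2 := card_SO_plane hR hD hd han
    let S1 : Set (U ≃ₗ[F] U) := {g | g ∈ O R ∧ ∀ v, g (B v) = B (g v)}
    let S2 : Set (U ≃ₗ[F] U) := {g | g ∈ O R ∧ ev g}
    have hsub : S1 ⊆ S2 := by
      rintro g ⟨hg1, hg2⟩
      refine ⟨hg1, ?_⟩
      have h3 := dvd_finrank hirr (fixS g) (fun v hv => by
        rw [mem_fixS] at hv ⊢
        change g (B v) = B v
        rw [hg2, hv])
      rw [hdeg] at h3
      exact even_iff_two_dvd.2 h3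
    have heq : S1 = S2 := by
      refine Set.eq_of_subset_of_ncard_le hsub ?_ (Set.toFinite _)
      rw [← Nat.card_coe_set_eq, ← Nat.card_coe_set_eq]
      exact (hcard2.trans hcard.symm).le
    have h3 : β ∈ S1 := by rw [heq]; exact ⟨hβ, hβev⟩
    exact h3.2 v
  · push Not at h2
    rw [h2, h2, map_neg]

end plane

end Cfsg.Agent.H286.CS
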